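import Mathlib

/-! Groups acting on finite vector spaces over the field with two elements: invariant perfect
pairings and Fourier transfer of orbit information. -/

set_option autoImplicit false

namespace Cfsg.Lib.CK2

open Module Submodule

/-- The field with two elements. -/
abbrev F2 := ZMod 2

theorem f2_cases (c : F2) : c = 0 ∨ c = 1 := by revert c; decide

theorem f2_ne_zero {c : F2} : c ≠ 0 ↔ c = 1 := by revert c; decide

theorem f2_ne_one {c : F2} : c ≠ 1 ↔ c = 0 := by revert c; decide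

theorem f2_add_self (c : F2) : c + c = 0 := by revert c; decide

section basic

variable {A : Type*} [AddCommGroup A] [Module F2 A]

theorem add_self (a : A) : a + a = 0 := by
  have h : (1 + 1 : F2) = 0 := by decide
  rw [← one_smul F2 a, ← add_smul, h, zero_smul]

theorem add_add_cancel (a b : A) : a + b + b = a := by rw [add_assoc, add_self, add_zero]

theorem add_add_cancel' (a b : A) : a + (a + b) = b := by rw [← add_assoc, add_self, zero_add]

theorem add_add_cancel'' (a b : A) : a + b + a = b := by rw [add_comm a b, add_add_cancel]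

theorem neg_eq (a : A) : -a = a := by rw [neg_eq_iff_add_eq_zero, add_self]

theorem add_eq_zero' {a b : A} : a + b = 0 ↔ a = b := by
  rw [add_eq_zero_iff_eq_neg, neg_eq]

theorem mem_span_one {y u : A} : u ∈ span F2 {y} ↔ u = 0 ∨ u = y := by
  rw [mem_span_singleton]
  constructor
  · rintro ⟨c, rfl⟩
    rcases f2_cases c with rfl | rfl <;> simp
  · rintro (rfl | rfl)
    exacts [⟨0, by simp⟩, ⟨1, by simp⟩]

theorem mem_span_two {y z u : A} : u ∈ span F2 {y, z} ↔ u = 0 ∨ u = y ∨ u = z ∨ u = y + z := by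
  rw [mem_span_pair]
  constructor
  · rintro ⟨c, d, rfl⟩
    rcases f2_cases c with rfl | rfl <;> rcases f2_cases d with rfl | rfl <;> simp
  · rintro (rfl | rfl | rfl | rfl)
    exacts [⟨0, 0, by simp⟩, ⟨1, 0, by simp⟩, ⟨0, 1, by simp⟩, ⟨1, 1, by simp⟩]

theorem card_eq [Finite A] : Nat.card A = 2 ^ finrank F2 A := by
  rw [Module.natCard_eq_pow_finrank (K := F2), Nat.card_zmod]

theorem finrank_span_two {y z : A} (hy : y ≠ 0) (hz : z ≠ 0) (hzy : z ≠ y) :
    finrank F2 (span F2 {y, z}) = 2 := by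
  have h : LinearIndependent F2 ![y, z] := by
    rw [LinearIndependent.pair_iff]
    intro s t h
    rcases f2_cases s with rfl | rfl <;> rcases f2_cases t with rfl | rfl
    · simp
    · simp [hz] at h
    · simp [hy] at h
    · simp only [one_smul] at h
      exact absurd (add_eq_zero'.1 h).symm hzy
  have := finrank_span_eq_card h
  rwa [Matrix.range_cons_cons_empty, Fintype.card_fin] at this

variable {Γ : Type*} [Group Γ] [DistribMulAction Γ A]

theorem smul_f2 (g : Γ) (c : F2) (a : A) : g • (c • a) = c • (g • a) := by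
  rcases f2_cases c with rfl | rfl <;> simp

/-- The linear map of a group element. -/
def lin (A : Type*) [AddCommGroup A] [Module F2 A] [DistribMulAction Γ A] (g : Γ) : A ≃ₗ[F2] A :=
  { DistribMulAction.toAddEquiv A g with map_smul' := fun c a => smul_f2 g c a }

@[simp] theorem lin_apply (g : Γ) (a : A) : lin A g a = g • a := rfl

theorem smul_ne_zero' (g : Γ) {a : A} (h : a ≠ 0) : g • a ≠ 0 := fun e =>
  h ((smul_eq_zero_iff_eq g).1 e)

theorem finrank_eq_of_smul (g : Γ) {L M : Submodule F2 A} (h : ∀ a, g • a ∈ M ↔ a ∈ L) :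
    finrank F2 M = finrank F2 L := by
  have e : M = L.map (lin A g : A →ₗ[F2] A) := by
    ext a
    simp only [mem_map, LinearEquiv.coe_coe, lin_apply]
    exact ⟨fun ha => ⟨g⁻¹ • a, (h _).1 (by simpa using ha), by simp⟩,
      fun ⟨b, hb, e⟩ => e ▸ (h b).2 hb⟩
  rw [e, LinearEquiv.finrank_map_eq]

end basic

/-- An invariant perfect pairing. -/
structure Pr (Γ A B : Type*) [Group Γ] [AddCommGroup A] [Module F2 A] [AddCommGroup B] [Module F2 B]
    [DistribMulAction Γ A] [DistribMulAction Γ B] where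
  b : A →ₗ[F2] B →ₗ[F2] F2
  l : ∀ a, (∀ f, b a f = 0) → a = 0
  r : ∀ f, (∀ a, b a f = 0) → f = 0
  inv : ∀ (g : Γ) a f, b (g • a) (g • f) = b a f

/-- The sign character. -/
def sg (c : F2) : ℤ := if c = 0 then 1 else -1

theorem sg_add (c d : F2) : sg (c + d) = sg c * sg d := by revert c d; decide

@[simp] theorem sg_zero : sg 0 = 1 := rfl

@[simp] theorem sg_one : sg 1 = -1 := rfl

namespace Pr

variable {Γ A B : Type*} [Group Γ] [AddCommGroup A] [Module F2 A] [AddCommGroup B] [Module F2 B]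
  [DistribMulAction Γ A] [DistribMulAction Γ B] (P : Pr Γ A B)

/-- The flipped pairing. -/
def flip : Pr Γ B A := ⟨P.b.flip, P.r, P.l, fun g f a => P.inv g a f⟩

@[simp] theorem flip_b (f : B) (a : A) : P.flip.b f a = P.b a f := rfl

/-- The annihilator. -/
def perp (L : Submodule F2 A) : Submodule F2 B where
  carrier := {f | ∀ a ∈ L, P.b a f = 0}
  add_mem' := fun hf hg a ha => by rw [map_add, hf a ha, hg a ha, add_zero]
  zero_mem' := fun a _ => map_zero _
  smul_mem' := fun c f hf a ha => by rw [map_smul, hf a ha, smul_zero]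

theorem mem_perp {L : Submodule F2 A} {f : B} : f ∈ P.perp L ↔ ∀ a ∈ L, P.b a f = 0 := Iff.rfl

theorem mem_perp_one {y : A} {f : B} : f ∈ P.perp (span F2 {y}) ↔ P.b y f = 0 := by
  refine ⟨fun h => h y (mem_span_singleton_self y), fun h a ha => ?_⟩
  rcases mem_span_one.1 ha with rfl | rfl <;> simp [*]

theorem mem_perp_two {y z : A} {f : B} : f ∈ P.perp (span F2 {y, z}) ↔ P.b y f = 0 ∧ P.b z f = 0 := by
  refine ⟨fun h => ⟨h y (mem_span_two.2 (by simp)), h z (mem_span_two.2 (by simp))⟩, fun h a ha => ?_⟩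
  rcases mem_span_two.1 ha with rfl | rfl | rfl | rfl <;> simp [h.1, h.2]

theorem inv' (g : Γ) (a : A) (f : B) : P.b (g • a) f = P.b a (g⁻¹ • f) := by
  conv_lhs => rw [← smul_inv_smul g f, P.inv]

theorem inv'' (g : Γ) (a : A) (f : B) : P.b a (g • f) = P.b (g⁻¹ • a) f := by
  conv_lhs => rw [← smul_inv_smul g a, P.inv]

variable [Finite A] [Finite B]

include P in
theorem finrank_eq : finrank F2 B = finrank F2 A := by
  have h1 : Function.Injective P.b := by
    rw [← LinearMap.ker_eq_bot, eq_bot_iff]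
    intro a ha
    exact P.l a fun f => by rw [LinearMap.mem_ker.1 ha]; rfl
  have h2 : Function.Injective P.b.flip := by
    rw [← LinearMap.ker_eq_bot, eq_bot_iff]
    intro f hf
    exact P.r f fun a => by
      have := LinearMap.congr_fun (LinearMap.mem_ker.1 hf) a
      simpa using this
  have e1 := LinearMap.finrank_le_finrank_of_injective h1
  have e2 := LinearMap.finrank_le_finrank_of_injective h2
  have e3 : finrank F2 (B →ₗ[F2] F2) = finrank F2 B := Subspace.dual_finrank_eq
  have e4 : finrank F2 (A →ₗ[F2] F2) = finrank F2 A := Subspace.dual_finrank_eq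
  omega

theorem bij : Function.Bijective P.b.flip := by
  have h2 : Function.Injective P.b.flip := by
    rw [← LinearMap.ker_eq_bot, eq_bot_iff]
    intro f hf
    exact P.r f fun a => by
      have := LinearMap.congr_fun (LinearMap.mem_ker.1 hf) a
      simpa using this
  refine ⟨h2, (LinearMap.injective_iff_surjective_of_finrank_eq_finrank ?_).1 h2⟩
  rw [P.finrank_eq]
  exact Subspace.dual_finrank_eq.symm

theorem exists_fun (φ : A →ₗ[F2] F2) : ∃ f, ∀ a, P.b a f = φ a := by
  obtain ⟨f, hf⟩ := P.bij.2 φ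
  exact ⟨f, fun a => by rw [← hf]; rfl⟩

theorem exists_sep {L : Submodule F2 A} {v : A} (hv : v ∉ L) : ∃ f ∈ P.perp L, P.b v f = 1 := by
  obtain ⟨φ, h1, h2⟩ := Submodule.exists_dual_map_eq_bot_of_notMem hv inferInstance
  obtain ⟨f, hf⟩ := P.exists_fun φ
  refine ⟨f, fun a ha => ?_, ?_⟩
  · rw [hf]
    have : φ a ∈ L.map φ := mem_map_of_mem ha
    rwa [h2, mem_bot] at this
  · rw [hf]; exact f2_ne_zero.1 h1

theorem mem_of_perp {L : Submodule F2 A} {v : A} (h : ∀ f ∈ P.perp L, P.b v f = 0) : v ∈ L := by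
  by_contra hv
  obtain ⟨f, hf, e⟩ := P.exists_sep hv
  rw [h f hf] at e
  exact zero_ne_one e

theorem perp_perp (L : Submodule F2 A) : P.flip.perp (P.perp L) = L := by
  ext v
  exact ⟨fun h => P.mem_of_perp fun f hf => h f hf, fun h f hf => hf v h⟩

theorem finrank_perp (L : Submodule F2 A) : finrank F2 L + finrank F2 (P.perp L) = finrank F2 A := by
  have e : P.perp L = L.dualAnnihilator.map
      ((LinearEquiv.ofBijective P.b.flip P.bij).symm : Dual F2 A →ₗ[F2] B) := by
    ext f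
    simp only [mem_map, mem_dualAnnihilator, LinearEquiv.coe_coe]
    constructor
    · intro h
      exact ⟨P.b.flip f, fun w hw => h w hw, (LinearEquiv.symm_apply_eq _).2 rfl⟩
    · rintro ⟨φ, h, e⟩ a ha
      rw [LinearEquiv.symm_apply_eq] at e
      have := h a ha
      rw [e] at this
      exact this
  rw [e, LinearEquiv.finrank_map_eq]
  exact Subspace.finrank_add_finrank_dualAnnihilator_eq L

omit [Finite B] in
/-- Translation trick. -/
theorem sum_eq_zero [Fintype A] {T : A → ℤ} (l : A) (h : ∀ a, T (a + l) = -T a) : ∑ a, T a = 0 := by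
  have e : ∑ a, T (a + l) = ∑ a, T a := Fintype.sum_equiv (Equiv.addRight l) _ _ fun _ => rfl
  simp only [h, Finset.sum_neg_distrib] at e
  omega

omit [Finite B] in
theorem sum_sg [Fintype A] {f : B} (hf : f ≠ 0) : ∑ a, sg (P.b a f) = 0 := by
  obtain ⟨l, hl⟩ : ∃ l, P.b l f ≠ 0 := by
    by_contra h
    push Not at h
    exact hf (P.r f h)
  refine sum_eq_zero l fun a => ?_
  rw [map_add, LinearMap.add_apply, sg_add, f2_ne_zero.1 hl]
  simp

/-- Fourier transfer. -/
theorem four_gen [Fintype A] (Δ : Subgroup Γ) {f₁ f₂ : B}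
    (h : ∀ F : A → ℤ, (∀ g ∈ Δ, ∀ a, F (g • a) = F a) →
      ∑ a, F a * sg (P.b a f₁) = ∑ a, F a * sg (P.b a f₂)) : ∃ g ∈ Δ, g • f₁ = f₂ := by
  classical
  have := Fintype.ofFinite B
  set O : Finset B := Finset.univ.filter fun f => ∃ g ∈ Δ, g • f₁ = f with hO
  have key : ∀ f', ∑ a, (∑ f ∈ O, sg (P.b a f)) * sg (P.b a f') =
      if f' ∈ O then (Fintype.card A : ℤ) else 0 := by
    intro f'
    simp only [Finset.sum_mul]
    rw [Finset.sum_comm]
    have : ∀ f ∈ O, ∑ a, sg (P.b a f) * sg (P.b a f') = if f = f' then (Fintype.card A : ℤ) else 0 := by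
      intro f _
      simp only [← sg_add, ← map_add]
      split_ifs with e
      · simp [e, add_self]
      · exact P.sum_sg fun e' => e (add_eq_zero'.1 e')
    rw [Finset.sum_congr rfl this, Finset.sum_ite_eq']
  have h1 := h (fun a => ∑ f ∈ O, sg (P.b a f)) (by
    intro g hg a
    refine Finset.sum_bij' (fun f _ => g⁻¹ • f) (fun f _ => g • f) ?_ ?_ ?_ ?_ ?_
    · intro f hf
      simp only [hO, Finset.mem_filter, Finset.mem_univ, true_and] at hf ⊢
      obtain ⟨k, hk, rfl⟩ := hf
      exact ⟨g⁻¹ * k, Δ.mul_mem (Δ.inv_mem hg) hk, mul_smul _ _ _⟩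
    · intro f hf
      simp only [hO, Finset.mem_filter, Finset.mem_univ, true_and] at hf ⊢
      obtain ⟨k, hk, rfl⟩ := hf
      exact ⟨g * k, Δ.mul_mem hg hk, mul_smul _ _ _⟩
    · intro f _; simp
    · intro f _; simp
    · intro f _; rw [P.inv'])
  rw [key, key] at h1
  have h2 : f₁ ∈ O := by
    simp only [hO, Finset.mem_filter, Finset.mem_univ, true_and]
    exact ⟨1, Δ.one_mem, one_smul _ _⟩
  rw [if_pos h2] at h1
  by_cases h3 : f₂ ∈ O
  · simpa [hO] using h3
  · rw [if_neg h3] at h1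
    have : 0 < Fintype.card A := Fintype.card_pos
    omega

/-- Orbits outside `L` are `L`-invariant ⇒ orbits outside `L^⊥` are `L^⊥`-invariant. -/
theorem four (Δ : Subgroup Γ) (L : Submodule F2 A)
    (H : ∀ u ∉ L, ∀ a ∈ L, ∃ g ∈ Δ, g • u = u + a) {f m : B} (hf : f ∉ P.perp L)
    (hm : m ∈ P.perp L) : ∃ g ∈ Δ, g • f = f + m := by
  have := Fintype.ofFinite A
  refine P.four_gen Δ fun F hF => ?_
  obtain ⟨l, hl, hlf⟩ : ∃ l ∈ L, P.b l f ≠ 0 := by
    by_contra h
    push Not at h
    exact hf h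
  rw [← sub_eq_zero, ← Finset.sum_sub_distrib]
  refine sum_eq_zero l fun a => ?_
  by_cases ha : a ∈ L
  · simp [map_add, sg_add, hm a ha, hm l hl]
  · obtain ⟨g, hg, e⟩ := H a ha l hl
    rw [← e, hF g hg, e]
    simp only [map_add, LinearMap.add_apply, sg_add, hm l hl, f2_ne_zero.1 hlf, sg_one, sg_zero]
    ring

/-- Transitive on nonzero vectors off a fixed vector ⇒ transitive on nonzero functionals killing it. -/
theorem four_flag (Δ : Subgroup Γ) (x : A)
    (H : ∀ u v : A, u ≠ 0 → u ≠ x → v ≠ 0 → v ≠ x → ∃ g ∈ Δ, g • u = v) {f₁ f₂ : B}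
    (h₁ : f₁ ≠ 0) (h₂ : f₂ ≠ 0) (e₁ : P.b x f₁ = 0) (e₂ : P.b x f₂ = 0) : ∃ g ∈ Δ, g • f₁ = f₂ := by
  classical
  have := Fintype.ofFinite A
  refine P.four_gen Δ fun F hF => ?_
  by_cases hu : ∃ u : A, u ≠ 0 ∧ u ≠ x
  · obtain ⟨u, hu0, hux⟩ := hu
    have key : ∀ f : B, f ≠ 0 → P.b x f = 0 → ∑ a, F a * sg (P.b a f) =
        ∑ a, if a = 0 ∨ a = x then F a - F u else 0 := by
      intro f hf e
      have h0 := P.sum_sg hf
      have : ∀ a, F a * sg (P.b a f) = F u * sg (P.b a f) + if a = 0 ∨ a = x then F a - F u else 0 := by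
        intro a
        split_ifs with ha
        · rcases ha with rfl | rfl <;> simp [*]
        · push Not at ha
          obtain ⟨g, hg, rfl⟩ := H u a hu0 hux ha.1 ha.2
          rw [hF g hg, add_zero]
      simp only [this, Finset.sum_add_distrib, ← Finset.mul_sum, h0, mul_zero, zero_add]
    rw [key _ h₁ e₁, key _ h₂ e₂]
  · push Not at hu
    exfalso
    refine h₁ (P.r _ fun a => ?_)
    by_cases ha : a = 0
    · simp [ha]
    · rw [hu a ha, e₁]

/-- Three orbits `0`, the rest of `ker f`, the complement ⇒ transitive off `⟨f⟩`. -/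
theorem four_two (Δ : Subgroup Γ) (f : B)
    (H : ∀ u v : A, u ≠ 0 → v ≠ 0 → P.b u f = P.b v f → ∃ g ∈ Δ, g • u = v) {h₁ h₂ : B}
    (a₁ : h₁ ≠ 0) (a₂ : h₂ ≠ 0) (b₁ : h₁ ≠ f) (b₂ : h₂ ≠ f) : ∃ g ∈ Δ, g • h₁ = h₂ := by
  classical
  have := Fintype.ofFinite A
  refine P.four_gen Δ fun F hF => ?_
  have ex : ∀ h : B, h ≠ 0 → h ≠ f → ∃ l, P.b l f = 0 ∧ P.b l h = 1 := by
    intro h h0 hf
    obtain ⟨l, hl, e⟩ := P.flip.exists_sep (L := span F2 {f}) (v := h) (by
      rw [mem_span_one]; tauto)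
    exact ⟨l, P.flip.mem_perp_one.1 hl, e⟩
  obtain ⟨u, hu, hu'⟩ := ex h₁ a₁ b₁
  have hu0 : u ≠ 0 := by rintro rfl; simp at hu'
  have key : ∀ h : B, h ≠ 0 → h ≠ f → ∑ a, F a * sg (P.b a h) = F 0 - F u := by
    intro h h0 hf
    obtain ⟨l, hl, hl'⟩ := ex h h0 hf
    have hl0 : l ≠ 0 := by rintro rfl; simp at hl'
    set F' : A → ℤ := fun a => if a = 0 then F u else F a with hF'
    have inv : ∀ a a', P.b a f = P.b a' f → F' a = F' a' := by
      have s : ∀ a, ∃ a₀, a₀ ≠ 0 ∧ P.b a₀ f = P.b a f ∧ F' a = F a₀ := by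
        intro a
        by_cases ha : a = 0
        · exact ⟨u, hu0, by simp [ha, hu], by simp [hF', ha]⟩
        · exact ⟨a, ha, rfl, by simp [hF', ha]⟩
      intro a a' e
      obtain ⟨c, c0, c1, c2⟩ := s a
      obtain ⟨d, d0, d1, d2⟩ := s a'
      obtain ⟨g, hg, rfl⟩ := H c d c0 d0 (by rw [c1, d1, e])
      rw [c2, d2, hF g hg]
    have z : ∑ a, F' a * sg (P.b a h) = 0 := by
      refine sum_eq_zero l fun a => ?_
      rw [inv (a + l) a (by simp [hl])]
      simp [sg_add, hl']
    have : ∀ a, F a * sg (P.b a h) = F' a * sg (P.b a h) + if a = 0 then F 0 - F u else 0 := by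
      intro a
      by_cases ha : a = 0 <;> simp [hF', ha]
    simp only [this, Finset.sum_add_distrib, z, zero_add, Finset.sum_ite_eq', Finset.mem_univ, if_true]
  rw [key _ a₁ b₁, key _ a₂ b₂]

end Pr

end Cfsg.Lib.CK2
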