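import Cfsg.Agent.Lib.CK2.A
import Cfsg.Agent.Lib.Perm.Module

/-! Sub- and quotient actions, duals; antiflag transitive groups and good pairs. -/

set_option autoImplicit false

namespace Cfsg.Lib.CK2

open Module Submodule MulAction

section quot

variable {Γ A : Type*} [Group Γ] [AddCommGroup A] [Module F2 A] [DistribMulAction Γ A]

/-- `L` is invariant under `Δ`. -/
class Inv (Δ : Subgroup Γ) (L : Submodule F2 A) : Prop where
  h : ∀ g ∈ Δ, ∀ a ∈ L, g • a ∈ L

instance invStab (x : A) : Inv (stabilizer Γ x) (span F2 {x}) :=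
  ⟨fun g hg a ha => by
    rcases mem_span_one.1 ha with rfl | rfl
    · simp
    · rw [mem_stabilizer_iff.1 hg]; exact ha⟩

/-- The stabilizer of a subspace. -/
def Stab (Γ : Type*) [Group Γ] [DistribMulAction Γ A] (L : Submodule F2 A) : Subgroup Γ where
  carrier := {g | ∀ a, g • a ∈ L ↔ a ∈ L}
  mul_mem' := fun {g h} hg hh a => by rw [mul_smul, hg, hh]
  one_mem' := fun a => by rw [one_smul]
  inv_mem' := fun {g} hg a => by rw [← hg, smul_inv_smul]

theorem mem_Stab {L : Submodule F2 A} {g : Γ} : g ∈ Stab Γ L ↔ ∀ a, g • a ∈ L ↔ a ∈ L := Iff.rfl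

instance invStab' (L : Submodule F2 A) : Inv (Stab Γ L) L := ⟨fun _ hg a ha => (hg a).2 ha⟩

variable (Δ : Subgroup Γ) (L : Submodule F2 A) [hL : Inv Δ L]

instance quotSMul : SMul Δ (A ⧸ L) :=
  ⟨fun g => L.mapQ L (lin A (g : Γ) : A →ₗ[F2] A) fun a ha => hL.h g g.2 a ha⟩

variable {Δ L}

@[simp] theorem smul_mk (g : Δ) (a : A) :
    g • (Submodule.Quotient.mk a : A ⧸ L) = Submodule.Quotient.mk ((g : Γ) • a) := rfl

variable (Δ L)

instance quotAct : DistribMulAction Δ (A ⧸ L) where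
  one_smul q := by induction q using Submodule.Quotient.induction_on; simp
  mul_smul g h q := by induction q using Submodule.Quotient.induction_on; simp [mul_smul]
  smul_zero g := by rw [← Submodule.Quotient.mk_zero, smul_mk, smul_zero]
  smul_add g q r := by
    induction q using Submodule.Quotient.induction_on
    induction r using Submodule.Quotient.induction_on
    rw [← Submodule.Quotient.mk_add, smul_mk, smul_mk, smul_mk, smul_add, Submodule.Quotient.mk_add]

instance subSMul : SMul Δ L := ⟨fun g a => ⟨(g : Γ) • (a : A), hL.h g g.2 a a.2⟩⟩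

variable {Δ L}

@[simp] theorem coe_smul_sub (g : Δ) (a : L) : ((g • a : L) : A) = (g : Γ) • (a : A) := rfl

variable (Δ L)

instance subAct : DistribMulAction Δ L where
  one_smul a := Subtype.ext (by simp)
  mul_smul g h a := Subtype.ext (by simp [mul_smul])
  smul_zero g := Subtype.ext (by simp)
  smul_add g a b := Subtype.ext (by simp)

/-- The dual space. -/
def Du (A : Type*) [AddCommGroup A] [Module F2 A] := A →ₗ[F2] F2

instance duAdd : AddCommGroup (Du A) := inferInstanceAs (AddCommGroup (A →ₗ[F2] F2))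

instance duMod : Module F2 (Du A) := inferInstanceAs (Module F2 (A →ₗ[F2] F2))

instance duFin [Finite A] : Finite (Du A) :=
  show Finite (A →ₗ[F2] F2) from
    Finite.of_injective (fun f : A →ₗ[F2] F2 => (f : A → F2)) DFunLike.coe_injective

instance quotFin [Finite A] (M : Submodule F2 A) : Finite (A ⧸ M) :=
  Finite.of_surjective _ M.mkQ_surjective

instance duAct : DistribMulAction Γ (Du A) where
  smul g f := LinearMap.comp (f : A →ₗ[F2] F2) (lin A g⁻¹ : A →ₗ[F2] A)
  one_smul f := LinearMap.ext fun a => by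
    change (show A →ₗ[F2] F2 from f) ((1 : Γ)⁻¹ • a) = _
    simp
  mul_smul g h f := LinearMap.ext fun a => by
    change (show A →ₗ[F2] F2 from f) ((g * h)⁻¹ • a) = (show A →ₗ[F2] F2 from f) (h⁻¹ • g⁻¹ • a)
    rw [mul_inv_rev, mul_smul]
  smul_zero g := rfl
  smul_add g f h := rfl

/-- The canonical pairing. -/
def Pr.dual (Γ A : Type*) [Group Γ] [AddCommGroup A] [Module F2 A] [DistribMulAction Γ A] :
    Pr Γ A (Du A) where
  b := Module.Dual.eval F2 A
  l a h := (Module.forall_dual_apply_eq_zero_iff F2 a).1 h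
  r f h := LinearMap.ext h
  inv g a f := by
    change (show A →ₗ[F2] F2 from f) (g⁻¹ • g • a) = _
    simp only [inv_smul_smul]
    rfl

variable {B : Type*} [AddCommGroup B] [Module F2 B] [DistribMulAction Γ B] (P : Pr Γ A B)

instance invPerp : Inv Δ (P.perp L) :=
  ⟨fun g hg f hf a ha => by rw [P.inv'']; exact hf _ (hL.h _ (Δ.inv_mem hg) a ha)⟩

/-- The pairing between a quotient and the annihilator. -/
def Pr.quot [Finite A] [Finite B] : Pr Δ (A ⧸ L) (P.perp L) where
  b := L.liftQ (P.b.domRestrict₂ (P.perp L)) fun a ha => LinearMap.ext fun f => f.2 a ha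
  l q h := by
    induction q using Submodule.Quotient.induction_on with | H a =>
    rw [Submodule.Quotient.mk_eq_zero]
    exact P.mem_of_perp fun f hf => h ⟨f, hf⟩
  r f h := Subtype.ext (P.r _ fun a => h (Submodule.Quotient.mk a))
  inv g q f := by
    induction q using Submodule.Quotient.induction_on with | H a =>
    exact P.inv g a f

@[simp] theorem Pr.quot_b [Finite A] [Finite B] (a : A) (f : P.perp L) :
    (P.quot Δ L).b (Submodule.Quotient.mk a) f = P.b a f := rfl

end quot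

section AT

variable {Γ A B : Type*} [Group Γ] [AddCommGroup A] [Module F2 A] [AddCommGroup B] [Module F2 B]
  [DistribMulAction Γ A] [DistribMulAction Γ B]

/-- Antiflag transitivity (in the form: on each line, each point stabilizer swaps the others). -/
def AT (Γ A : Type*) [Group Γ] [AddCommGroup A] [DistribMulAction Γ A] : Prop :=
  ∀ y u : A, y ≠ 0 → u ≠ 0 → u ≠ y → ∃ g : Γ, g • y = y ∧ g • u = u + y

theorem AT.trans (h : AT Γ A) {y z : A} (hy : y ≠ 0) (hz : z ≠ 0) : ∃ g : Γ, g • y = z := by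
  by_cases e : y = z
  · exact ⟨1, by rw [one_smul, e]⟩
  obtain ⟨g, -, hg⟩ := h (y + z) y (fun e' => e (add_eq_zero'.1 e')) hy (by simpa using hz)
  exact ⟨g, by rw [hg, add_add_cancel']⟩

variable [Finite A] [Finite B]

theorem AT.anti (h : AT Γ A) (P : Pr Γ A B) {y : A} {f f' : B} (hf : P.b y f = 1) (hf' : P.b y f' = 1) :
    ∃ g : Γ, g • y = y ∧ g • f = f' := by
  have hy : y ≠ 0 := by rintro rfl; simp at hf
  obtain ⟨g, hg, e⟩ := P.four (stabilizer Γ y) (span F2 {y}) (f := f) (m := f + f') (by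
    intro u hu a ha
    rw [mem_span_one, not_or] at hu
    rcases mem_span_one.1 ha with rfl | rfl
    · exact ⟨1, one_mem _, by simp⟩
    · exact h a u hy hu.1 hu.2) (by rw [P.mem_perp_one, hf]; decide)
    (by rw [P.mem_perp_one, map_add, hf, hf']; decide)
  exact ⟨g, hg, by rw [e, add_add_cancel']⟩

theorem AT.anti' (h : AT Γ A) (P : Pr Γ A B) {y y' : A} {f f' : B} (hf : P.b y f = 1)
    (hf' : P.b y' f' = 1) : ∃ g : Γ, g • y = y' ∧ g • f = f' := by
  have hy : y ≠ 0 := by rintro rfl; simp at hf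
  have hy' : y' ≠ 0 := by rintro rfl; simp at hf'
  obtain ⟨g, rfl⟩ := h.trans hy hy'
  obtain ⟨k, e1, e2⟩ := h.anti P (y := g • y) (f := g • f) (by rw [P.inv, hf]) hf'
  exact ⟨k * g, by rw [mul_smul, e1], by rw [mul_smul, e2]⟩

theorem AT.dual (h : AT Γ A) (P : Pr Γ A B) : AT Γ B := by
  intro f u hf hu huf
  obtain ⟨g, hg, e⟩ := P.four (stabilizer Γ f) (P.flip.perp (span F2 {f})) (f := u) (m := f) (by
    intro v hv a ha
    rw [P.flip.mem_perp_one, P.flip_b] at hv ha
    obtain ⟨g, e1, e2⟩ := h.anti' P (y := v) (y' := v + a) (f := f) (f' := f) (f2_ne_zero.1 hv)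
      (by rw [map_add, LinearMap.add_apply, ha, add_zero, f2_ne_zero.1 hv])
    exact ⟨g, e2, e1⟩) (by
      have := P.flip.perp_perp (span F2 {f})
      change P.perp _ = _ at this
      rw [this, mem_span_one]; tauto) (fun a ha => P.flip.mem_perp_one.1 ha)
  exact ⟨g, hg, e⟩

/-- Good pairs. -/
structure Good (Γ : Type*) [Group Γ] [DistribMulAction Γ A] (y z : A) : Prop where
  y0 : y ≠ 0
  z0 : z ≠ 0
  ne : z ≠ y
  mv : ∀ u ∉ span F2 {y, z}, ∀ a ∈ span F2 {y, z}, ∃ g : Γ, g • y = y ∧ g • z = z ∧ g • u = u + a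

omit [Finite A] in
theorem card_affine (P : Pr Γ A B) [Finite A] {y : A} (hy : y ≠ 0) :
    Nat.card {f : B // P.b y f = 1} = 2 ^ (finrank F2 A - 1) := by
  obtain ⟨f₀, -, h₀⟩ := P.exists_sep (L := ⊥) (v := y) (by simpa using hy)
  have e : {f : B // P.b y f = 1} ≃ P.perp (span F2 {y}) :=
    { toFun := fun f => ⟨f + f₀, by rw [P.mem_perp_one, map_add, f.2, h₀]; decide⟩
      invFun := fun f => ⟨f + f₀, by rw [map_add, P.mem_perp_one.1 f.2, h₀, zero_add]⟩
      left_inv := fun f => Subtype.ext (add_add_cancel _ _)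
      right_inv := fun f => Subtype.ext (add_add_cancel _ _) }
  have := P.finrank_perp (span F2 {y})
  rw [finrank_span_singleton hy] at this
  rw [Nat.card_congr e, card_eq]
  congr 1
  omega

/-- The action of a point stabilizer on the opposite functionals. -/
def antiAct (P : Pr Γ A B) (y : A) : MulAction (stabilizer Γ y) {f : B // P.b y f = 1} where
  smul g f := ⟨(g : Γ) • (f : B), by
    rw [P.inv'', mem_stabilizer_iff.1 (Subgroup.inv_mem _ g.2)]; exact f.2⟩
  one_smul f := Subtype.ext (one_smul _ _)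
  mul_smul g h f := Subtype.ext (mul_smul _ _ _)

theorem AT.sylow [Finite Γ] (h : AT Γ A) (P : Pr Γ A B) {y : A} (hy : y ≠ 0)
    (S : Sylow 2 (stabilizer Γ y)) {f f' : B} (hf : P.b y f = 1) (hf' : P.b y f' = 1) :
    ∃ g ∈ S, ((g : stabilizer Γ y) : Γ) • f = f' := by
  letI := antiAct P y
  haveI : IsPretransitive (stabilizer Γ y) {f : B // P.b y f = 1} := ⟨fun f f' => by
    obtain ⟨g, e1, e2⟩ := h.anti P f.2 f'.2
    exact ⟨⟨g, e1⟩, Subtype.ext e2⟩⟩
  obtain ⟨g, e⟩ := (Cfsg.Lib.Perm.sylow_isPretransitive (card_affine P hy) S).exists_smul_eq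
    ⟨f, hf⟩ ⟨f', hf'⟩
  exact ⟨g, g.2, congrArg Subtype.val e⟩

omit [Finite B] in
theorem exists_fixed {Δ : Type*} [Group Δ] [DistribMulAction Δ A] (hΔ : IsPGroup 2 Δ)
    (hA : 1 ≤ finrank F2 A) : ∃ a : A, a ≠ 0 ∧ ∀ g : Δ, g • a = a := by
  obtain ⟨b, hb, e⟩ := hΔ.exists_fixed_point_of_prime_dvd_card_of_fixed_point (α := A)
    (by rw [card_eq]; exact dvd_pow_self 2 (by omega)) (a := 0) (fun g => smul_zero g)
  exact ⟨b, e.symm, hb⟩

theorem AT.exists_good [Finite Γ] (h : AT Γ A) (P : Pr Γ A B) (hA : 2 ≤ finrank F2 A) {y : A}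
    (hy : y ≠ 0) : ∃ z, Good Γ y z := by
  obtain ⟨S⟩ : Nonempty (Sylow 2 (stabilizer Γ y)) := inferInstance
  obtain ⟨q, hq, hS⟩ := exists_fixed (A := A ⧸ span F2 {y}) S.2 (by
    have := (span F2 {y}).finrank_quotient_add_finrank
    rw [finrank_span_singleton hy] at this
    omega)
  induction q using Submodule.Quotient.induction_on with | H z =>
  rw [Ne, Submodule.Quotient.mk_eq_zero, mem_span_one, not_or] at hq
  have hS' : ∀ g ∈ S, ((g : stabilizer Γ y) : Γ) • z = z ∨ ((g : stabilizer Γ y) : Γ) • z = z + y := by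
    intro g hg
    have := hS ⟨g, hg⟩
    change g • (Submodule.Quotient.mk z : A ⧸ span F2 {y}) = _ at this
    rw [smul_mk, Submodule.Quotient.eq, mem_span_one, sub_eq_zero, sub_eq_iff_eq_add'] at this
    exact this
  have t1 : ∀ f f', P.b y f = 1 → P.b y f' = 1 → P.b z f = P.b z f' →
      ∃ g : Γ, g • y = y ∧ g • z = z ∧ g • f = f' := by
    intro f f' hf hf' e
    obtain ⟨g, hg, e'⟩ := h.sylow P hy S hf hf'
    refine ⟨g, g.2, (hS' g hg).resolve_right fun k => ?_, e'⟩
    have := P.inv (g : Γ) z f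
    rw [k, e', map_add, LinearMap.add_apply, hf', e] at this
    simp at this
  obtain ⟨k, k1, k2⟩ := h (y + z) y (fun e => hq.2 (add_eq_zero'.1 e).symm) hy (by simpa using hq.1)
  rw [add_add_cancel'] at k2
  have k3 : k • z = y := by
    rw [smul_add, k2] at k1
    rw [← add_add_cancel' z (k • z), k1, add_comm y z, add_add_cancel']
  have t2 : ∀ f f', P.b z f = 1 → P.b z f' = 1 → P.b y f = P.b y f' →
      ∃ g : Γ, g • y = y ∧ g • z = z ∧ g • f = f' := by
    intro f f' hf hf' e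
    obtain ⟨g, g1, g2, g3⟩ := t1 (k⁻¹ • f) (k⁻¹ • f') (by rw [← P.inv', k2, hf])
      (by rw [← P.inv', k2, hf']) (by rw [← P.inv', ← P.inv', k3, e])
    refine ⟨k * g * k⁻¹, ?_, ?_, by rw [mul_smul, mul_smul, g3, smul_inv_smul]⟩
    · rw [mul_smul, mul_smul, ← k3, inv_smul_smul, g2]
    · rw [mul_smul, mul_smul, ← k2, inv_smul_smul, g1]
  refine ⟨z, hy, hq.1, hq.2, fun u hu a ha => ?_⟩
  obtain ⟨g, hg, e⟩ := P.flip.four (stabilizer Γ y ⊓ stabilizer Γ z) (P.perp (span F2 {y, z}))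
    (f := u) (m := a) (by
      intro f hf m hm
      rw [P.mem_perp_two] at hf hm
      by_cases hyf : P.b y f = 0
      · obtain ⟨g, g1, g2, g3⟩ := t2 f (f + m) (f2_ne_zero.1 fun e => hf ⟨hyf, e⟩)
          (by rw [map_add, hm.2, add_zero]; exact f2_ne_zero.1 fun e => hf ⟨hyf, e⟩)
          (by rw [map_add, hm.1, add_zero])
        exact ⟨g, ⟨g1, g2⟩, g3⟩
      · obtain ⟨g, g1, g2, g3⟩ := t1 f (f + m) (f2_ne_zero.1 hyf)
          (by rw [map_add, hm.1, add_zero]; exact f2_ne_zero.1 hyf) (by rw [map_add, hm.2, add_zero])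
        exact ⟨g, ⟨g1, g2⟩, g3⟩) (by rwa [P.perp_perp]) (by rwa [P.perp_perp])
  exact ⟨g, hg.1, hg.2, e⟩

theorem Good.fun (P : Pr Γ A B) {y z : A} (h : Good Γ y z) {f f' : B} (hf : ¬ (P.b y f = 0 ∧ P.b z f = 0))
    (e1 : P.b y f = P.b y f') (e2 : P.b z f = P.b z f') :
    ∃ g : Γ, g • y = y ∧ g • z = z ∧ g • f = f' := by
  obtain ⟨g, hg, e⟩ := P.four (stabilizer Γ y ⊓ stabilizer Γ z) (span F2 {y, z}) (f := f) (m := f + f')
    (fun u hu a ha => by
      obtain ⟨g, g1, g2, g3⟩ := h.mv u hu a ha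
      exact ⟨g, ⟨g1, g2⟩, g3⟩) (by rwa [P.mem_perp_two])
    (by rw [P.mem_perp_two, map_add, map_add, e1, e2, f2_add_self, f2_add_self]; simp)
  exact ⟨g, hg.1, hg.2, by rw [e, add_add_cancel']⟩

end AT

end Cfsg.Lib.CK2
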