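import Cfsg.Agent.Lib.CK2.B

/-! The subspaces `W y` of an antiflag transitive group. -/

set_option autoImplicit false

namespace Cfsg.Lib.CK2

open Module Submodule MulAction

variable {Γ A B : Type*} [Group Γ] [AddCommGroup A] [Module F2 A] [AddCommGroup B] [Module F2 B]
  [DistribMulAction Γ A] [DistribMulAction Γ B]

theorem span_two_comm (y z : A) : span F2 {y, z} = span F2 {z, y} := by rw [Set.pair_comm]

theorem span_two_add (y z : A) : span F2 {y, y + z} = span F2 {y, z} := by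
  ext u
  rw [mem_span_two, mem_span_two, add_add_cancel']
  tauto

theorem smul_mem_span_two (g : Γ) {y z u : A} : g • u ∈ span F2 {g • y, g • z} ↔ u ∈ span F2 {y, z} := by
  rw [mem_span_two, mem_span_two, ← smul_add, smul_eq_zero_iff_eq]
  simp only [smul_left_cancel_iff]

theorem Good.symm {y z : A} (h : Good Γ y z) : Good Γ z y :=
  ⟨h.z0, h.y0, h.ne.symm, fun u hu a ha => by
    rw [span_two_comm] at hu ha
    obtain ⟨g, g1, g2, g3⟩ := h.mv u hu a ha
    exact ⟨g, g2, g1, g3⟩⟩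

theorem Good.add {y z : A} (h : Good Γ y z) : Good Γ y (y + z) :=
  ⟨h.y0, fun e => h.ne (add_eq_zero'.1 e).symm, by simpa using h.z0, fun u hu a ha => by
    rw [span_two_add] at hu ha
    obtain ⟨g, g1, g2, g3⟩ := h.mv u hu a ha
    exact ⟨g, g1, by rw [smul_add, g1, g2], g3⟩⟩

theorem Good.add' {y z : A} (h : Good Γ y z) : Good Γ y (z + y) := add_comm y z ▸ h.add

theorem Good.smul {y z : A} (h : Good Γ y z) (k : Γ) : Good Γ (k • y) (k • z) :=
  ⟨smul_ne_zero' k h.y0, smul_ne_zero' k h.z0, fun e => h.ne (smul_left_cancel k e), fun u hu a ha => by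
    obtain ⟨g, g1, g2, g3⟩ := h.mv (k⁻¹ • u) (by rwa [← smul_mem_span_two k, smul_inv_smul]) (k⁻¹ • a)
      (by rwa [← smul_mem_span_two k, smul_inv_smul])
    exact ⟨k * g * k⁻¹, by simp [mul_smul, g1], by simp [mul_smul, g2], by simp [mul_smul, g3]⟩⟩

theorem good_smul (k : Γ) {y z : A} : Good Γ (k • y) (k • z) ↔ Good Γ y z :=
  ⟨fun h => by simpa using h.smul k⁻¹, fun h => h.smul k⟩

/-- The subspace of vectors forming a good pair with `y`. -/
def W (Γ : Type*) [Group Γ] [DistribMulAction Γ A] (y : A) : Submodule F2 A where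
  carrier := {z | z = 0 ∨ z = y ∨ Good Γ y z}
  zero_mem' := Or.inl rfl
  add_mem' := by
    rintro z z' (rfl | rfl | hz) (rfl | rfl | hz')
    · simp
    · simp
    · simp [hz']
    · simp
    · exact Or.inl (add_self _)
    · exact Or.inr (Or.inr hz'.add)
    · simp [hz]
    · exact Or.inr (Or.inr hz.add')
    · by_cases h : z' ∈ span F2 {y, z}
      · rcases mem_span_two.1 h with e | e | rfl | rfl
        · exact absurd e hz'.z0
        · exact absurd e hz'.ne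
        · exact Or.inl (add_self _)
        · exact Or.inr (Or.inl (by rw [add_comm y z, add_add_cancel']))
      · obtain ⟨g, g1, -, g3⟩ := hz.mv z' h z (mem_span_two.2 (by simp))
        have := hz'.smul g
        rw [g1, g3, add_comm] at this
        exact Or.inr (Or.inr this)
  smul_mem' := by
    intro c z hz
    rcases f2_cases c with rfl | rfl
    · exact Or.inl (zero_smul _ _)
    · rwa [one_smul]

theorem mem_W {y z : A} : z ∈ W Γ y ↔ z = 0 ∨ z = y ∨ Good Γ y z := Iff.rfl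

theorem self_mem_W (y : A) : y ∈ W Γ y := Or.inr (Or.inl rfl)

theorem Good.mem {y z : A} (h : Good Γ y z) : z ∈ W Γ y := Or.inr (Or.inr h)

theorem good_of_mem {y z : A} (h : z ∈ W Γ y) (h0 : z ≠ 0) (hy : z ≠ y) : Good Γ y z :=
  ((mem_W.1 h).resolve_left h0).resolve_left hy

theorem W_symm {y z : A} (h0 : z ≠ 0) (h : z ∈ W Γ y) : y ∈ W Γ z := by
  rcases mem_W.1 h with e | rfl | h
  exacts [absurd e h0, self_mem_W _, h.symm.mem]

theorem smul_mem_W (k : Γ) {y z : A} : k • z ∈ W Γ (k • y) ↔ z ∈ W Γ y := by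
  rw [mem_W, mem_W, smul_eq_zero_iff_eq, smul_left_cancel_iff, good_smul]

theorem W_inf_le {y z : A} (h : y ≠ z) : W Γ y ⊓ W Γ z ≤ W Γ (y + z) := by
  intro u hu
  by_cases h0 : u = 0
  · simp [h0]
  exact W_symm (fun e => h (add_eq_zero'.1 e)) (add_mem (W_symm h0 hu.1) (W_symm h0 hu.2))

theorem AT.finrank_W (h : AT Γ A) {y z : A} (hy : y ≠ 0) (hz : z ≠ 0) :
    finrank F2 (W Γ y) = finrank F2 (W Γ z) := by
  obtain ⟨g, rfl⟩ := h.trans hy hz
  exact (finrank_eq_of_smul g fun a => smul_mem_W g).symm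

theorem AT.W_mv (h : AT Γ A) {y u a : A} (hy : y ≠ 0) (hu : u ∉ W Γ y) (ha : a ∈ W Γ y) :
    ∃ g : Γ, g • y = y ∧ g • u = u + a := by
  rcases mem_W.1 ha with rfl | rfl | ha'
  · exact ⟨1, by simp, by simp⟩
  · exact h a u hy (fun e => hu (e ▸ zero_mem _)) fun e => hu (e ▸ self_mem_W _)
  · obtain ⟨g, g1, -, g3⟩ := ha'.mv u (fun e => hu ((span_le.2 (by
      rintro _ (rfl | rfl)
      exacts [self_mem_W _, ha])) e)) a (mem_span_two.2 (by simp))
    exact ⟨g, g1, g3⟩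

theorem AT.good_trans (h : AT Γ A) {y z z' : A} (hz : Good Γ y z) (hz' : Good Γ y z') :
    ∃ g : Γ, g • y = y ∧ g • z = z' := by
  by_cases e : z' ∈ span F2 {y, z}
  · rcases mem_span_two.1 e with e | e | rfl | rfl
    · exact absurd e hz'.z0
    · exact absurd e hz'.ne
    · exact ⟨1, by simp, by simp⟩
    · rw [add_comm y z]; exact h y z hz.y0 hz.z0 hz.ne
  · rw [mem_span_two] at e
    push Not at e
    have k : Good Γ y (z + z') := good_of_mem (add_mem hz.mem hz'.mem)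
      (fun e' => e.2.2.1 (add_eq_zero'.1 e').symm) (fun e' => e.2.2.2 (by rw [← e', add_add_cancel'']))
    obtain ⟨g, g1, -, g3⟩ := k.mv z (by
      rw [mem_span_two]
      push Not
      refine ⟨hz.z0, hz.ne, by simpa using hz'.z0, fun e' => hz'.ne ?_⟩
      rw [add_comm z z', ← add_assoc, right_eq_add] at e'
      exact (add_eq_zero'.1 e').symm) (z + z') (mem_span_two.2 (by simp))
    exact ⟨g, g1, by rw [g3, add_add_cancel']⟩

theorem AT.good_conj (h : AT Γ A) {y z y' z' : A} (hz : Good Γ y z) (hz' : Good Γ y' z') :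
    ∃ g : Γ, g • y = y' ∧ g • z = z' := by
  obtain ⟨g, rfl⟩ := h.trans hz.y0 hz'.y0
  obtain ⟨k, k1, k2⟩ := h.good_trans (hz.smul g) hz'
  exact ⟨k * g, by rw [mul_smul, k1], by rw [mul_smul, k2]⟩

theorem AT.finrank_inf (h : AT Γ A) {y z y' z' : A} (hz : Good Γ y z) (hz' : Good Γ y' z') :
    finrank F2 ↥(W Γ y ⊓ W Γ z) = finrank F2 ↥(W Γ y' ⊓ W Γ z') := by
  obtain ⟨g, rfl, rfl⟩ := h.good_conj hz hz'
  exact (finrank_eq_of_smul g fun a => by simp only [mem_inf, smul_mem_W]).symm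

theorem Good.span_le {y z : A} (h : Good Γ y z) : span F2 {y, z} ≤ W Γ y ⊓ W Γ z := by
  rw [Submodule.span_le]
  rintro _ (rfl | rfl)
  exacts [⟨self_mem_W _, h.symm.mem⟩, ⟨h.mem, self_mem_W _⟩]

variable [Finite A] [Finite B]

theorem Good.two_le_inf {y z : A} (h : Good Γ y z) : 2 ≤ finrank F2 ↥(W Γ y ⊓ W Γ z) :=
  (finrank_span_two h.y0 h.z0 h.ne).ge.trans (finrank_mono h.span_le)

theorem Good.two_le {y z : A} (h : Good Γ y z) : 2 ≤ finrank F2 (W Γ y) :=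
  h.two_le_inf.trans (finrank_mono inf_le_left)

theorem card_ne_zero (A : Type*) [AddCommGroup A] [Module F2 A] [Finite A] :
    Nat.card {a : A // a ≠ 0} = 2 ^ finrank F2 A - 1 := by
  classical
  have := Fintype.ofFinite A
  rw [← card_eq, Nat.card_eq_fintype_card, Nat.card_eq_fintype_card, Fintype.card_subtype_compl]
  simp

theorem card_pairs (R : A → Submodule F2 B) {k : ℕ} (hR : ∀ y ≠ 0, finrank F2 (R y) = k) :
    {p : A × B | p.1 ≠ 0 ∧ p.2 ≠ 0 ∧ p.2 ∈ R p.1}.ncard = (2 ^ finrank F2 A - 1) * (2 ^ k - 1) := by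
  have e : {p : A × B | p.1 ≠ 0 ∧ p.2 ≠ 0 ∧ p.2 ∈ R p.1} ≃
      Σ y : {a : A // a ≠ 0}, {f : R y // f ≠ 0} :=
    { toFun := fun p => ⟨⟨p.1.1, p.2.1⟩, ⟨⟨p.1.2, p.2.2.2⟩, fun e => p.2.2.1 (congrArg Subtype.val e)⟩⟩
      invFun := fun q => ⟨(q.1.1, q.2.1.1), q.1.2, fun e => q.2.2 (Subtype.ext e), q.2.1.2⟩
      left_inv := fun _ => rfl
      right_inv := fun _ => rfl }
  have := Fintype.ofFinite {a : A // a ≠ 0}
  rw [← Nat.card_coe_set_eq, Nat.card_congr e, Nat.card_sigma]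
  simp only [card_ne_zero]
  rw [Finset.sum_congr rfl fun (y : {a : A // a ≠ 0}) _ => by rw [hR y y.2]]
  rw [Finset.sum_const, Finset.card_univ, ← Nat.card_eq_fintype_card, card_ne_zero, smul_eq_mul]

theorem AT.big_trans (h : AT Γ A) (P : Pr Γ A B) {y y' : A} {f f' : B} (e : P.b y f = 0)
    (e' : P.b y' f' = 0) (n : f ∉ P.perp (W Γ y)) (n' : f' ∉ P.perp (W Γ y')) :
    ∃ g : Γ, g • y = y' ∧ g • f = f' := by
  have ex : ∀ {y : A} {f : B}, P.b y f = 0 → f ∉ P.perp (W Γ y) → ∃ z, Good Γ y z ∧ P.b z f = 1 := by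
    intro y f e n
    rw [P.mem_perp] at n
    push Not at n
    obtain ⟨z, hz, hz'⟩ := n
    refine ⟨z, good_of_mem hz ?_ ?_, f2_ne_zero.1 hz'⟩
    · rintro rfl; simp at hz'
    · rintro rfl; exact hz' e
  obtain ⟨z, hz, ez⟩ := ex e n
  obtain ⟨z', hz', ez'⟩ := ex e' n'
  obtain ⟨g, rfl, rfl⟩ := h.good_conj hz hz'
  obtain ⟨k, k1, -, k3⟩ := hz'.fun P (f := g • f) (f' := f') (by rw [P.inv, P.inv, ez]; simp)
    (by rw [P.inv, e, e']) (by rw [P.inv, ez, ez'])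
  exact ⟨k * g, by rw [mul_smul, k1], by rw [mul_smul, k3]⟩

omit [Finite A] [Finite B] in
theorem smul_mem_perp_W (P : Pr Γ A B) (g : Γ) {y : A} {f : B} :
    g • f ∈ P.perp (W Γ (g • y)) ↔ f ∈ P.perp (W Γ y) :=
  ⟨fun h a ha => by rw [← P.inv g]; exact h _ ((smul_mem_W g).2 ha),
    fun h a ha => by rw [P.inv'']; exact h _ ((smul_mem_W g).1 (by rwa [smul_inv_smul]))⟩

variable [Finite Γ]

theorem AT.dual_aux (h : AT Γ A) (P : Pr Γ A B) (hA : 2 ≤ finrank F2 A) :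
    ∃ (y : A) (f : B), P.b y f = 0 ∧ f ∉ P.perp (W Γ y) ∧ y ∉ P.flip.perp (W Γ f) := by
  by_contra hc
  push Not at hc
  have hB := P.finrank_eq
  have h' := h.dual P
  have : Nontrivial A := Module.nontrivial_of_finrank_pos (R := F2) (by omega)
  have : Nontrivial B := Module.nontrivial_of_finrank_pos (R := F2) (by omega)
  obtain ⟨y₀, hy₀⟩ := exists_ne (0 : A)
  obtain ⟨f₀, hf₀⟩ := exists_ne (0 : B)
  obtain ⟨z₀, hz₀⟩ := h.exists_good P hA hy₀
  obtain ⟨g₀, hg₀⟩ := h'.exists_good P.flip (by omega) hf₀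
  have w1 := hz₀.two_le
  have w2 := hg₀.two_le
  have c0 := card_pairs (fun y : A => P.perp (span F2 {y})) (k := finrank F2 A - 1) fun y hy => by
    have := P.finrank_perp (span F2 {y})
    rw [finrank_span_singleton hy] at this
    omega
  have c1 := card_pairs (fun y : A => P.perp (W Γ y)) (k := finrank F2 A - finrank F2 (W Γ y₀))
    fun y hy => by
      have := P.finrank_perp (W Γ y)
      rw [h.finrank_W hy hy₀] at this
      omega
  have c2 := card_pairs (fun f : B => P.flip.perp (W Γ f)) (k := finrank F2 A - finrank F2 (W Γ f₀))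
    fun f hf => by
      have := P.flip.finrank_perp (W Γ f)
      rw [h'.finrank_W hf hf₀] at this
      omega
  rw [← Set.ncard_image_of_injective _ Prod.swap_injective, hB] at c2
  have le := (Set.ncard_le_ncard (s := {p : A × B | p.1 ≠ 0 ∧ p.2 ≠ 0 ∧ p.2 ∈ P.perp (span F2 {p.1})})
    (t := {p : A × B | p.1 ≠ 0 ∧ p.2 ≠ 0 ∧ p.2 ∈ P.perp (W Γ p.1)} ∪
      Prod.swap '' {p : B × A | p.1 ≠ 0 ∧ p.2 ≠ 0 ∧ p.2 ∈ P.flip.perp (W Γ p.1)}) (by
      rintro ⟨y, f⟩ ⟨hy, hf, e⟩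
      by_cases k : f ∈ P.perp (W Γ y)
      · exact Or.inl ⟨hy, hf, k⟩
      · exact Or.inr ⟨(f, y), ⟨hf, hy, hc y f (P.mem_perp_one.1 e) k⟩, rfl⟩)).trans
    (Set.ncard_union_le _ _)
  rw [c0, c1, c2, ← mul_add] at le
  have p0 : 0 < 2 ^ finrank F2 A - 1 := by
    have : 1 < 2 ^ finrank F2 A := Nat.one_lt_two_pow (by omega)
    omega
  have le' := Nat.le_of_mul_le_mul_left le p0
  have a1 : 2 ^ (finrank F2 A - finrank F2 (W Γ y₀)) ≤ 2 ^ (finrank F2 A - 2) :=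
    Nat.pow_le_pow_right (by norm_num) (by omega)
  have a2 : 2 ^ (finrank F2 A - finrank F2 (W Γ f₀)) ≤ 2 ^ (finrank F2 A - 2) :=
    Nat.pow_le_pow_right (by norm_num) (by omega)
  have a3 : 2 ^ (finrank F2 A - 1) = 2 * 2 ^ (finrank F2 A - 2) := by
    rw [← pow_succ']; congr 1; omega
  have a4 : 0 < 2 ^ (finrank F2 A - finrank F2 (W Γ y₀)) := by positivity
  have a5 : 0 < 2 ^ (finrank F2 A - finrank F2 (W Γ f₀)) := by positivity
  omega

theorem AT.perp_W_imp (h : AT Γ A) (P : Pr Γ A B) (hA : 2 ≤ finrank F2 A) {y : A} {f : B}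
    (hf : f ≠ 0) (k : y ∈ P.flip.perp (W Γ f)) : f ∈ P.perp (W Γ y) := by
  obtain ⟨y₀, f₀, e, n1, n2⟩ := h.dual_aux P hA
  by_contra n
  obtain ⟨g, rfl, rfl⟩ := h.big_trans P e (k f (self_mem_W f)) n1 n
  exact n2 ((smul_mem_perp_W P.flip g).1 k)

theorem AT.perp_W_iff (h : AT Γ A) (P : Pr Γ A B) (hA : 2 ≤ finrank F2 A) {y : A} {f : B}
    (hy : y ≠ 0) (hf : f ≠ 0) : f ∈ P.perp (W Γ y) ↔ y ∈ P.flip.perp (W Γ f) :=
  ⟨fun k => (h.dual P).perp_W_imp P.flip (P.finrank_eq ▸ hA) hy k, h.perp_W_imp P hA hf⟩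

/-- Subadditivity. -/
theorem AT.W_add_le (h : AT Γ A) (hA : 2 ≤ finrank F2 A) {y z : A} (hy : y ≠ 0) (hz : z ≠ 0) :
    W Γ (y + z) ≤ W Γ y ⊔ W Γ z := by
  set P := Pr.dual Γ A
  intro u hu
  by_cases hyz : y + z = 0
  · rw [hyz] at hu
    rcases mem_W.1 hu with rfl | rfl | hu
    exacts [zero_mem _, zero_mem _, absurd rfl hu.y0]
  refine P.mem_of_perp fun f hf => ?_
  by_cases h0 : f = 0
  · simp [h0]
  have a1 := (h.perp_W_iff P hA hy h0).1 fun a ha => hf a (mem_sup_left ha)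
  have a2 := (h.perp_W_iff P hA hz h0).1 fun a ha => hf a (mem_sup_right ha)
  exact (h.perp_W_iff P hA hyz h0).2 (add_mem a1 a2) u hu

theorem AT.finrank_W_dual (h : AT Γ A) (P : Pr Γ A B) (hA : 2 ≤ finrank F2 A) {y₀ : A} {f₀ : B}
    (hy₀ : y₀ ≠ 0) (hf₀ : f₀ ≠ 0) : finrank F2 (W Γ f₀) = finrank F2 (W Γ y₀) := by
  have hB := P.finrank_eq
  have h' := h.dual P
  have c1 := card_pairs (fun y : A => P.perp (W Γ y)) (k := finrank F2 A - finrank F2 (W Γ y₀))
    fun y hy => by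
      have := P.finrank_perp (W Γ y)
      rw [h.finrank_W hy hy₀] at this
      omega
  have c2 := card_pairs (fun f : B => P.flip.perp (W Γ f)) (k := finrank F2 A - finrank F2 (W Γ f₀))
    fun f hf => by
      have := P.flip.finrank_perp (W Γ f)
      rw [h'.finrank_W hf hf₀] at this
      omega
  rw [← Set.ncard_image_of_injective _ Prod.swap_injective, hB] at c2
  have e : {p : A × B | p.1 ≠ 0 ∧ p.2 ≠ 0 ∧ p.2 ∈ P.perp (W Γ p.1)} =
      Prod.swap '' {p : B × A | p.1 ≠ 0 ∧ p.2 ≠ 0 ∧ p.2 ∈ P.flip.perp (W Γ p.1)} := by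
    ext ⟨y, f⟩
    constructor
    · rintro ⟨hy, hf, k⟩
      exact ⟨(f, y), ⟨hf, hy, (h.perp_W_iff P hA hy hf).1 k⟩, rfl⟩
    · rintro ⟨⟨f', y'⟩, ⟨hf, hy, k⟩, e⟩
      cases e
      exact ⟨hy, hf, (h.perp_W_iff P hA hy hf).2 k⟩
  rw [e, c2] at c1
  have p0 : 0 < 2 ^ finrank F2 A - 1 := by
    have : 1 < 2 ^ finrank F2 A := Nat.one_lt_two_pow (by omega)
    omega
  have e1 := Nat.eq_of_mul_eq_mul_left p0 c1
  have a4 : 0 < 2 ^ (finrank F2 A - finrank F2 (W Γ y₀)) := by positivity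
  have a5 : 0 < 2 ^ (finrank F2 A - finrank F2 (W Γ f₀)) := by positivity
  have e2 := Nat.pow_right_injective (a := 2) le_rfl
    (show 2 ^ (finrank F2 A - finrank F2 (W Γ f₀)) = 2 ^ (finrank F2 A - finrank F2 (W Γ y₀)) by omega)
  have b1 := (W Γ y₀).finrank_le
  have b2 := (W Γ f₀).finrank_le
  omega

end Cfsg.Lib.CK2
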