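import Cfsg.Agent.Lib.CK2.C

/-! The codimension of `W y ⊓ W c` is at most one; the codimension one case. -/

set_option autoImplicit false

namespace Cfsg.Lib.CK2

open Module Submodule MulAction

variable {Γ A : Type*} [Group Γ] [AddCommGroup A] [Module F2 A] [DistribMulAction Γ A] [Finite A]

theorem ncard_sub (L : Submodule F2 A) : (L : Set A).ncard = 2 ^ finrank F2 L := by
  rw [← Nat.card_coe_set_eq, ← card_eq]; rfl

theorem dvd_sum [Fintype A] (L : Submodule F2 A) (m : A → ℕ) (h : ∀ u, ∀ a ∈ L, m (u + a) = m u) :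
    2 ^ finrank F2 L ∣ ∑ u, m u := by
  classical
  obtain ⟨L', hL⟩ := L.exists_isCompl
  rw [← Fintype.sum_equiv (Submodule.prodEquivOfIsCompl L L' hL).toEquiv (fun x => m x.2) m (by
    intro x
    change _ = m (x.1 + x.2)
    rw [add_comm, h _ _ x.1.2]), Fintype.sum_prod_type]
  dsimp only
  rw [Finset.sum_const, Finset.card_univ, ← Nat.card_eq_fintype_card, card_eq, smul_eq_mul]
  exact Dvd.intro _ rfl

theorem cod1 {M N : Submodule F2 A} (le : M ≤ N) (h : finrank F2 M + 1 = finrank F2 N) {a b : A}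
    (ha : a ∈ N) (hb : b ∈ N) (ha' : a ∉ M) (hb' : b ∉ M) : a + b ∈ M := by
  have e : M ⊔ span F2 {a} = N := eq_of_le_of_finrank_eq
    (sup_le le ((span_singleton_le_iff_mem _ _).2 ha)) (by rw [finrank_sup_span_singleton ha', h])
  rw [← e, mem_sup] at hb
  obtain ⟨m, hm, c, hc, rfl⟩ := hb
  rcases mem_span_one.1 hc with rfl | rfl
  · simp [hm] at hb'
  · rwa [add_comm m c, add_add_cancel']

theorem mem_sup_one {M : Submodule F2 A} {u v : A} : v ∈ M ⊔ span F2 {u} ↔ v ∈ M ∨ v + u ∈ M := by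
  rw [mem_sup]
  constructor
  · rintro ⟨m, hm, c, hc, rfl⟩
    rcases mem_span_one.1 hc with rfl | rfl
    · simp [hm]
    · simp [add_add_cancel, hm]
  · rintro (h | h)
    · exact ⟨v, h, 0, zero_mem _, add_zero _⟩
    · exact ⟨v + u, h, u, mem_span_singleton_self u, add_add_cancel _ _⟩

theorem finrank_le_succ {M N : Submodule F2 A}
    (h : ∀ a ∈ N, ∀ b ∈ N, a ∉ M → b ∉ M → a + b ∈ M) : finrank F2 N ≤ finrank F2 M + 1 := by
  by_cases le : N ≤ M
  · exact (finrank_mono le).trans (Nat.le_succ _)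
  obtain ⟨a, ha, ha'⟩ := SetLike.not_le_iff_exists.1 le
  rw [← finrank_sup_span_singleton ha']
  refine finrank_mono fun b hb => mem_sup_one.2 ?_
  by_cases hb' : b ∈ M
  exacts [Or.inl hb', Or.inr (h b hb a ha hb' ha')]

theorem AT.inf_succ (h : AT Γ A) {y c : A} (hc : Good Γ y c) :
    finrank F2 (W Γ y) ≤ finrank F2 ↥(W Γ y ⊓ W Γ c) + 1 := by
  classical
  have := Fintype.ofFinite A
  set w := finrank F2 (W Γ y) with hw
  set e := finrank F2 ↥(W Γ y ⊓ W Γ c) with he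
  have d := dvd_sum (W Γ y) (fun u => ∑ c, if Good Γ y c ∧ u ∉ W Γ y ∧ u ∈ W Γ c then 1 else 0) (by
    intro u a ha
    by_cases hu : u ∈ W Γ y
    · simp [hu, add_mem hu ha]
    obtain ⟨g, g1, g2⟩ := h.W_mv hc.y0 hu ha
    rw [← g2]
    refine (Fintype.sum_equiv (MulAction.toPerm g) _ _ fun c => ?_).symm
    have a1 : Good Γ y (g • c) ↔ Good Γ y c := by conv_lhs => rw [← g1, good_smul]
    have a2 : g • u ∈ W Γ y ↔ u ∈ W Γ y := by conv_lhs => rw [← g1, smul_mem_W]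
    simp only [toPerm_apply, a1, a2, smul_mem_W])
  rw [Finset.sum_comm] at d
  have s1 : ∀ c', (∑ u, if Good Γ y c' ∧ u ∉ W Γ y ∧ u ∈ W Γ c' then 1 else 0) =
      if Good Γ y c' then 2 ^ w - 2 ^ e else 0 := by
    intro c'
    split_ifs with k
    · simp only [k, true_and]
      rw [← Finset.card_filter, ← Set.ncard_coe_finset, hw, he, h.finrank_W hc.y0 k.z0,
        h.finrank_inf hc k, ← ncard_sub, ← ncard_sub, ← Set.ncard_diff (by
          intro x hx; exact hx.2)]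
      congr 1
      ext x
      simp only [Finset.coe_filter, Finset.mem_univ, true_and, Set.mem_setOf_eq, Set.mem_diff,
        SetLike.mem_coe, mem_inf]
      tauto
    · simp [k]
  simp only [s1] at d
  rw [← Finset.sum_filter, Finset.sum_const, smul_eq_mul, ← Set.ncard_coe_finset] at d
  have s2 : ((Finset.univ.filter fun c => Good Γ y c : Finset A) : Set A).ncard = 2 ^ w - 2 ^ 1 := by
    rw [hw, ← finrank_span_singleton (K := F2) hc.y0, ← ncard_sub, ← ncard_sub, ← Set.ncard_diff (by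
      intro x hx
      rcases mem_span_one.1 hx with rfl | rfl
      exacts [zero_mem _, self_mem_W _])]
    congr 1
    ext x
    simp only [Finset.coe_filter, Finset.mem_univ, true_and, Set.mem_setOf_eq, Set.mem_diff,
      SetLike.mem_coe, mem_span_one, not_or]
    exact ⟨fun k => ⟨k.mem, k.z0, k.ne⟩, fun k => good_of_mem k.1 k.2.1 k.2.2⟩
  rw [s2] at d
  by_contra hlt
  push Not at hlt
  obtain ⟨j, hj⟩ : ∃ j, w = e + 1 + (j + 1) := ⟨w - e - 2, by omega⟩
  have t1 : 2 ^ w - 2 ^ 1 = 2 * (2 ^ (e + j + 1) - 1) := by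
    rw [hj, Nat.mul_sub, ← pow_succ']; congr 2; omega
  have t2 : 2 ^ w - 2 ^ e = 2 ^ e * (2 ^ (j + 2) - 1) := by
    rw [hj, Nat.mul_sub, ← pow_add, mul_one]; congr 2; omega
  have o1 : Odd (2 ^ (e + j + 1) - 1) := Nat.Even.sub_odd (Nat.one_le_two_pow) (by simp [Nat.even_pow]) odd_one
  have o2 : Odd (2 ^ (j + 2) - 1) := Nat.Even.sub_odd (Nat.one_le_two_pow) (by simp [Nat.even_pow]) odd_one
  rw [t1, t2, ← hw, hj, pow_add, show 2 * (2 ^ (e + j + 1) - 1) * (2 ^ e * (2 ^ (j + 2) - 1)) =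
    2 ^ (e + 1) * ((2 ^ (e + j + 1) - 1) * (2 ^ (j + 2) - 1)) by ring,
    Nat.mul_dvd_mul_iff_left (by positivity)] at d
  exact (o1.mul o2).not_two_dvd_nat ((dvd_pow_self 2 (by omega)).trans d)

/-- Subspaces closed under `W`. -/
def Closed (Γ : Type*) [Group Γ] [DistribMulAction Γ A] (X : Submodule F2 A) : Prop :=
  ∀ u ∈ X, u ≠ 0 → W Γ u ≤ X

/-- The codimension one situation. -/
structure J1 (Γ A : Type*) [Group Γ] [AddCommGroup A] [Module F2 A] [DistribMulAction Γ A] : Prop where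
  at' : AT Γ A
  two : 2 ≤ finrank F2 A
  cod : ∀ y c : A, Good Γ y c → finrank F2 ↥(W Γ y ⊓ W Γ c) + 1 = finrank F2 (W Γ y)

variable [Finite Γ]

namespace J1

variable (h : J1 Γ A)
include h

omit [Finite Γ] in
theorem sup_rank {y c : A} (hc : Good Γ y c) :
    finrank F2 ↥(W Γ y ⊔ W Γ c) = finrank F2 (W Γ y) + 1 := by
  have := finrank_sup_add_finrank_inf_eq (W Γ y) (W Γ c)
  have := h.cod y c hc
  have := h.at'.finrank_W hc.y0 hc.z0
  omega

omit [Finite Γ] in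
theorem exists_out {y c : A} (hc : Good Γ y c) : ∃ u ∈ W Γ c, u ∉ W Γ y := by
  by_contra k
  push Not at k
  have := h.sup_rank hc
  rw [sup_eq_left.2 k] at this
  omega

omit [Finite Γ] in
theorem sig_eq {y c v : A} (hc : Good Γ y c) (hv : v ∈ W Γ y ⊔ W Γ c) (hv' : v ∉ W Γ y) :
    W Γ y ⊔ W Γ c = W Γ y ⊔ span F2 {v} :=
  (eq_of_le_of_finrank_eq (sup_le le_sup_left ((span_singleton_le_iff_mem _ _).2 hv))
    (by rw [finrank_sup_span_singleton hv', h.sup_rank hc])).symm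

theorem tri {y c u : A} (hc : Good Γ y c) (hu : u ∈ W Γ y ⊔ W Γ c) :
    u ∈ W Γ y ∨ u ∈ W Γ c ∨ u ∈ W Γ (y + c) := by
  obtain ⟨a, ha, b, hb, rfl⟩ := mem_sup.1 hu
  by_cases ha' : a ∈ W Γ c
  · exact Or.inr (Or.inl (add_mem ha' hb))
  by_cases hb' : b ∈ W Γ y
  · exact Or.inl (add_mem ha hb')
  refine Or.inr (Or.inr ?_)
  obtain ⟨z, hz, hz'⟩ := h.exists_out hc.add
  obtain ⟨a', ha1, b', hb1, rfl⟩ := mem_sup.1 (h.at'.W_add_le h.two hc.y0 hc.z0 hz)
  have n1 : a' ∉ W Γ c := fun k => hz' (by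
    have := W_inf_le (Γ := Γ) (y := y + c) (z := c) (by simpa using hc.y0) ⟨hz, add_mem k hb1⟩
    rwa [add_add_cancel] at this)
  have n2 : b' ∉ W Γ y := fun k => hz' (add_mem ha1 k)
  have i1 : a + a' ∈ W Γ y ⊓ W Γ c := cod1 inf_le_left (h.cod y c hc) ha ha1 (fun k => ha' k.2)
    fun k => n1 k.2
  have i2 : b + b' ∈ W Γ c ⊓ W Γ y := cod1 inf_le_left (h.cod c y hc.symm) hb hb1 (fun k => hb' k.2)
    fun k => n2 k.2
  have i3 := W_inf_le hc.ne.symm (add_mem i1 ⟨i2.2, i2.1⟩)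
  have := add_mem i3 hz
  rwa [show a + a' + (b + b') + (a' + b') = a + b + (a' + a') + (b' + b') by abel, add_self, add_self,
    add_zero, add_zero] at this

theorem fib {y c v : A} (hc : Good Γ y c) (hv : v ∉ W Γ y) :
    v ∈ W Γ y ⊔ W Γ c ↔ c ∈ W Γ v ⊔ span F2 {y} := by
  have v0 : v ≠ 0 := fun e => hv (e ▸ zero_mem _)
  rw [mem_sup_one]
  constructor
  · intro k
    rcases h.tri hc k with k | k | k
    exacts [absurd k hv, Or.inl (W_symm v0 k), Or.inr (add_comm y c ▸ W_symm v0 k)]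
  · rintro (k | k)
    · exact mem_sup_right (W_symm hc.z0 k)
    · exact h.at'.W_add_le h.two hc.y0 hc.z0 (W_symm hc.add.z0 (add_comm c y ▸ k))

theorem hyper (hcl : ∀ X : Submodule F2 A, Closed Γ X → X ≠ ⊥ → X = ⊤) {y c : A} (hc : Good Γ y c)
    (hall : ∀ c', Good Γ y c' → W Γ y ⊔ W Γ c' = W Γ y ⊔ W Γ c) :
    finrank F2 (W Γ y) + 1 = finrank F2 A := by
  have : W Γ y ⊔ W Γ c = ⊤ := by
    refine hcl _ (fun u hu u0 => ?_) fun e => hc.y0 (by
      rw [← mem_bot F2, ← e]; exact mem_sup_left (self_mem_W y))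
    by_cases hy : u ∈ W Γ y
    · by_cases e : u = y
      · rw [e]; exact le_sup_left
      · rw [← hall u (good_of_mem hy u0 e)]; exact le_sup_right
    have le : W Γ y ≤ W Γ u ⊔ span F2 {y} := by
      intro e he
      rcases mem_W.1 he with rfl | rfl | k
      · exact zero_mem _
      · exact mem_sup_right (mem_span_singleton_self _)
      · exact (h.fib k hy).1 (by rwa [hall e k])
    have yu : y ∉ W Γ u := fun k => hy (W_symm hc.y0 k)
    have e : W Γ y ⊔ W Γ c = W Γ u ⊔ span F2 {y} := by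
      refine eq_of_le_of_finrank_eq ?_ ?_
      · rw [h.sig_eq hc hu hy]
        exact sup_le le ((span_singleton_le_iff_mem _ _).2 (mem_sup_left (self_mem_W u)))
      · rw [h.sup_rank hc, finrank_sup_span_singleton yu, h.at'.finrank_W hc.y0 u0]
    rw [e]; exact le_sup_left
  rw [← h.sup_rank hc, this, finrank_top]

theorem key {y e c' u u' : A} (he : Good Γ y e) (hc' : Good Γ y c') (hu : u ∉ W Γ y) (hu' : u' ∉ W Γ y)
    (a1 : e ∈ W Γ u ⊔ span F2 {y}) (a2 : c' ∈ W Γ u' ⊔ span F2 {y}) (n1 : c' ∉ W Γ u ⊔ span F2 {y}) :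
    e ∉ W Γ u' ⊔ span F2 {y} ∧ Good Γ y (e + c') ∧ u + u' ∉ W Γ y ∧ u + u' ∈ W Γ y ⊔ W Γ (e + c') := by
  have s1 := h.sig_eq he ((h.fib he hu).2 a1) hu
  have s2 := h.sig_eq hc' ((h.fib hc' hu').2 a2) hu'
  have n2 : e ∉ W Γ u' ⊔ span F2 {y} := fun k => n1 ((h.fib hc' hu).1 (by
    rw [s2, ← h.sig_eq he ((h.fib he hu').2 k) hu']
    exact (h.fib he hu).2 a1))
  have g : Good Γ y (e + c') := good_of_mem (add_mem he.mem hc'.mem)
    (fun k => n1 (add_eq_zero'.1 k ▸ a1)) fun k => n1 (by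
      rw [← add_add_cancel' e c', k]
      exact add_mem a1 (mem_sup_right (mem_span_singleton_self _)))
  have n3 : u + u' ∉ W Γ y := fun k => n1 ((h.fib hc' hu).1 (by
    rw [s2]; exact mem_sup_one.2 (Or.inr k)))
  refine ⟨n2, g, n3, ?_⟩
  obtain ⟨v, hv, hv'⟩ := h.exists_out g
  obtain ⟨a, ha, b, hb, rfl⟩ := mem_sup.1 (h.at'.W_add_le h.two he.z0 hc'.z0 hv)
  have ha2 : a ∈ W Γ y ⊔ span F2 {u} := s1 ▸ mem_sup_right ha
  have hb2 : b ∈ W Γ y ⊔ span F2 {u'} := s2 ▸ mem_sup_right hb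
  have mv : ∀ x, a + b + x ∈ W Γ y → x ∈ W Γ y ⊔ W Γ (e + c') := fun x k => by
    rw [← add_add_cancel' (a + b) x]
    exact add_mem (mem_sup_right hv) (mem_sup_left k)
  rcases mem_sup_one.1 ha2 with k | k <;> rcases mem_sup_one.1 hb2 with k' | k'
  · exact absurd (add_mem k k') hv'
  · have := (h.fib g hu').1 (mv u' (by rw [add_assoc]; exact add_mem k k'))
    exact absurd (by simpa [add_add_cancel] using add_mem this a2) n2
  · have := (h.fib g hu).1 (mv u (by rw [add_right_comm]; exact add_mem k k'))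
    exact absurd (by simpa [add_add_cancel''] using add_mem this a1) n1
  · exact mv _ (by rw [add_add_add_comm]; exact add_mem k k')

variable (hcl : ∀ X : Submodule F2 A, Closed Γ X → X ≠ ⊥ → X = ⊤)
include hcl

theorem mu {y c u d : A} (hN : finrank F2 (W Γ y) + 1 ≠ finrank F2 A) (hc : Good Γ y c)
    (hu : u ∈ W Γ c) (hu' : u ∉ W Γ y) (hd : d ∈ W Γ y) (hd' : d ∈ W Γ u) (d0 : d ≠ 0) : d = c := by
  by_contra hdc
  have u0 : u ≠ 0 := fun e => hu' (e ▸ zero_mem _)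
  have yu : y ∉ W Γ u := fun k => hu' (W_symm hc.y0 k)
  have cu := W_symm u0 hu
  obtain ⟨c', hc', ne⟩ : ∃ c', Good Γ y c' ∧ W Γ y ⊔ W Γ c' ≠ W Γ y ⊔ W Γ c := by
    by_contra k
    push Not at k
    exact hN (h.hyper hcl hc k)
  obtain ⟨u', hv, hv'⟩ := h.exists_out hc'
  have a2 := (h.fib hc' hv').1 (mem_sup_right hv)
  have n1 : c' ∉ W Γ u ⊔ span F2 {y} := fun k => ne (by
    rw [h.sig_eq hc' ((h.fib hc' hu').2 k) hu', h.sig_eq hc (mem_sup_right hu) hu'])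
  have gd : Good Γ y d := good_of_mem hd d0 fun e => yu (e ▸ hd')
  have gcd : Good Γ y (c + d) := good_of_mem (add_mem hc.mem hd)
    (fun e => hdc (add_eq_zero'.1 e).symm) fun e => yu (e ▸ add_mem cu hd')
  obtain ⟨-, g1, n3, m1⟩ := h.key hc hc' hu' hv' (mem_sup_left cu) a2 n1
  obtain ⟨-, g2, -, m2⟩ := h.key gd hc' hu' hv' (mem_sup_left hd') a2 n1
  obtain ⟨n4, -⟩ := h.key gcd hc' hu' hv' (mem_sup_left (add_mem cu hd')) a2 n1
  have m3 := add_mem ((h.fib g1 n3).1 m1) ((h.fib g2 n3).1 m2)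
  rw [add_add_add_comm, add_self, add_zero] at m3
  have m4 := add_mem ((h.fib gcd hu').2 (mem_sup_left (add_mem cu hd'))) ((h.fib gcd n3).2 m3)
  rw [add_add_cancel'] at m4
  exact n4 ((h.fib gcd hv').1 m4)

theorem three {y c : A} (hN : finrank F2 (W Γ y) + 1 ≠ finrank F2 A) (hc : Good Γ y c) :
    finrank F2 (W Γ y) = 3 := by
  obtain ⟨c', h1, h2⟩ := h.exists_out hc.symm
  have c0 : c' ≠ 0 := fun e => h2 (e ▸ zero_mem _)
  have g : Good Γ y c' := good_of_mem h1 c0 fun e => h2 (e ▸ hc.symm.mem)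
  have le : (W Γ y ⊓ W Γ c) ⊓ (W Γ y ⊓ W Γ c') ≤ span F2 {y} := by
    intro d hd
    rw [mem_span_one]
    by_cases d0 : d = 0
    · exact Or.inl d0
    · exact Or.inr (h.mu hcl (by rwa [h.at'.finrank_W hc.z0 hc.y0]) hc.symm h1 h2 hd.1.2 hd.2.2 d0)
  have e1 := finrank_mono le
  rw [finrank_span_singleton hc.y0] at e1
  have e2 := finrank_sup_add_finrank_inf_eq (W Γ y ⊓ W Γ c) (W Γ y ⊓ W Γ c')
  have e3 := finrank_mono (sup_le inf_le_left inf_le_left :
    (W Γ y ⊓ W Γ c) ⊔ (W Γ y ⊓ W Γ c') ≤ W Γ y)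
  have := h.cod y c hc
  have := h.cod y c' g
  have := hc.two_le_inf
  omega

end J1

/-- The second neighbourhood. -/
def W2 (Γ : Type*) [Group Γ] [DistribMulAction Γ A] (y : A) : Submodule F2 A :=
  ⨆ c ∈ W Γ y, W Γ c

omit [Finite A] [Finite Γ] in
theorem W_le_W2 {y c : A} (hc : c ∈ W Γ y) : W Γ c ≤ W2 Γ y := le_biSup (fun c => W Γ c) hc

omit [Finite A] [Finite Γ] in
theorem W_zero : W Γ (0 : A) = ⊥ := by
  rw [eq_bot_iff]
  rintro u (rfl | rfl | k)
  exacts [zero_mem _, zero_mem _, absurd rfl k.y0]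

theorem J1.W2_spec (h : J1 Γ A) (hcl : ∀ X : Submodule F2 A, Closed Γ X → X ≠ ⊥ → X = ⊤) {y c : A}
    (hN : finrank F2 (W Γ y) + 1 ≠ finrank F2 A) (hc : Good Γ y c) :
    finrank F2 (W2 Γ y) = 5 ∧ ∀ v ∈ W2 Γ y, ∃ c ∈ W Γ y, v ∈ W Γ c := by
  obtain ⟨c', h1, h2⟩ := h.exists_out hc.symm
  have c0 : c' ≠ 0 := fun e => h2 (e ▸ zero_mem _)
  have g : Good Γ y c' := good_of_mem h1 c0 fun e => h2 (e ▸ hc.symm.mem)
  obtain ⟨u, hu, hu'⟩ := h.exists_out hc
  obtain ⟨u', hv, hv'⟩ := h.exists_out g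
  have w3 := h.three hcl hN hc
  have n1 : c' ∉ W Γ u ⊔ span F2 {y} := fun k => h2 (by
    rcases mem_sup_one.1 k with k | k
    · rw [h.mu hcl hN hc hu hu' h1 k c0]; exact self_mem_W _
    · rw [← add_add_cancel c' y, h.mu hcl hN hc hu hu' g.add'.mem k g.add'.z0]
      exact add_mem (self_mem_W _) hc.symm.mem)
  obtain ⟨-, g1, n3, m1⟩ := h.key hc g hu' hv' ((h.fib hc hu').1 (mem_sup_right hu))
    ((h.fib g hv').1 (mem_sup_right hv)) n1
  have s1 := h.sig_eq hc (mem_sup_right hu) hu'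
  have s2 := h.sig_eq g (mem_sup_right hv) hv'
  have eW : W Γ y = span F2 {y, c} ⊔ span F2 {c'} := by
    refine (eq_of_le_of_finrank_eq (sup_le (hc.span_le.trans inf_le_left)
      ((span_singleton_le_iff_mem _ _).2 h1)) ?_).symm
    rw [finrank_sup_span_singleton fun k => h2 (hc.span_le k).2, finrank_span_two hc.y0 hc.z0 hc.ne, w3]
  have eX : W2 Γ y = (W Γ y ⊔ span F2 {u}) ⊔ span F2 {u'} := by
    refine le_antisymm (iSup₂_le fun e he => ?_) (sup_le (sup_le (W_le_W2 (self_mem_W y))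
      ((span_singleton_le_iff_mem _ _).2 (W_le_W2 hc.mem hu)))
      ((span_singleton_le_iff_mem _ _).2 (W_le_W2 h1 hv)))
    have b0 : W Γ y ≤ (W Γ y ⊔ span F2 {u}) ⊔ span F2 {u'} := le_sup_left.trans le_sup_left
    have b1 : W Γ c ≤ (W Γ y ⊔ span F2 {u}) ⊔ span F2 {u'} := (s1 ▸ le_sup_right).trans le_sup_left
    have b2 : W Γ c' ≤ (W Γ y ⊔ span F2 {u}) ⊔ span F2 {u'} :=
      (s2 ▸ le_sup_right : W Γ c' ≤ W Γ y ⊔ span F2 {u'}).trans (sup_le b0 le_sup_right)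
    have b3 : ∀ x ∈ span F2 {y, c}, W Γ x ≤ (W Γ y ⊔ span F2 {u}) ⊔ span F2 {u'} := by
      intro x hx
      rcases mem_span_two.1 hx with rfl | rfl | rfl | rfl
      exacts [W_zero (Γ := Γ) (A := A) ▸ bot_le, b0, b1,
        (h.at'.W_add_le h.two hc.y0 hc.z0).trans (sup_le b0 b1)]
    rw [eW] at he
    rcases mem_sup_one.1 he with k | k
    · exact b3 e k
    · by_cases e0 : e + c' = 0
      · rw [add_eq_zero'.1 e0]; exact b2
      · rw [← add_add_cancel e c']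
        exact (h.at'.W_add_le h.two e0 c0).trans (sup_le (b3 _ k) b2)
  have nu : u' ∉ W Γ y ⊔ span F2 {u} := fun k => by
    rcases mem_sup_one.1 k with k | k
    exacts [hv' k, n3 (add_comm u' u ▸ k)]
  refine ⟨by rw [eX, finrank_sup_span_singleton nu, finrank_sup_span_singleton hu', w3], fun v hv => ?_⟩
  have t : ∀ e, Good Γ y e → v ∈ W Γ y ⊔ W Γ e → ∃ c ∈ W Γ y, v ∈ W Γ c := fun e he k => by
    rcases h.tri he k with k | k | k
    exacts [⟨y, self_mem_W y, k⟩, ⟨e, he.mem, k⟩, ⟨_, he.add.mem, k⟩]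
  rw [eX] at hv
  rcases mem_sup_one.1 hv with k | k
  · exact t c hc (s1 ▸ k)
  · rcases mem_sup_one.1 k with k | k
    · exact t c' g (s2 ▸ mem_sup_one.2 (Or.inr k))
    · refine t _ g1 ?_
      have := add_mem (mem_sup_left k) m1
      rwa [show v + u' + u + (u + u') = v + (u + u) + (u' + u') by abel, add_self, add_self, add_zero,
        add_zero] at this

end Cfsg.Lib.CK2
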