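import Cfsg.Agent.Lib.CK2.A

/-! A nonsingular alternating trilinear form over the field with two elements forces dimension ≤ 3. -/

set_option autoImplicit false

namespace Cfsg.Lib.CK2

open Module MvPolynomial Matrix

theorem ns_coord {n : ℕ} (hn : 4 ≤ n) (c : Fin n → Fin n → Fin n → F2)
    (s12 : ∀ i j k, c i j k = c j i k) (s23 : ∀ i j k, c i j k = c i k j) (alt : ∀ i k, c i i k = 0)
    (ns : ∀ x b : Fin n → F2, x ≠ 0 → (∀ j, ∑ k, (∑ i, c i j k * x i) * b k = 0) → b = 0 ∨ b = x) :
    False := by
  classical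
  obtain ⟨M, hM⟩ : ∃ M : Matrix (Fin n) (Fin n) (MvPolynomial (Fin n) F2),
      ∀ j k, M j k = ∑ i, C (c i j k) * X i := 
    ⟨Matrix.of fun j k => ∑ i, C (c i j k) * X i, by intro j k; simp only [Matrix.of_apply]⟩
  have quad : ∀ {R : Type} [CommRing R] (ψ : F2 →+* R) (x : Fin n → R) (j : Fin n),
      ∑ k, (∑ i, ψ (c i j k) * x i) * x k = 0 := by
    intro R _ ψ x j
    simp only [Finset.sum_mul]
    rw [← Finset.sum_product']
    refine Finset.sum_involution (fun p _ => p.swap) ?_ ?_ (by simp) (by simp)
    · rintro ⟨k, i⟩ -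
      have : c k j i = c i j k := by rw [s12, s23, s12]
      simp only [Prod.swap, this]
      rw [mul_right_comm, ← add_mul, ← add_mul, ← map_add, f2_add_self, map_zero, zero_mul, zero_mul]
    · rintro ⟨k, i⟩ - h e
      have : i = k := congrArg Prod.fst e
      subst this
      exact h (by simp only; rw [s23, alt, map_zero, zero_mul, zero_mul])
  have MX : M *ᵥ (fun k => X k) = 0 := funext fun j => by
    simpa only [mulVec, dotProduct, hM, Pi.zero_apply] using quad C (fun k => X k) j
  have Msym : Mᵀ = M := by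
    ext1 j k
    rw [transpose_apply, hM, hM]
    exact Finset.sum_congr rfl fun i _ => by rw [s23]
  have i0 : Fin n := ⟨0, by omega⟩
  have det0 : M.det = 0 := exists_mulVec_eq_zero_iff.1 ⟨_, fun e => X_ne_zero i0 (congrFun e i0), MX⟩
  have ev : ∀ (x : Fin n → F2) (i : Fin n), x i = 1 → eval x (adjugate M i i) = 1 := by
    intro x i hi
    rw [adjugate_apply, RingHom.map_det, ← f2_ne_zero]
    intro h0
    obtain ⟨b, hb, e⟩ := exists_mulVec_eq_zero_iff.2 h0
    have x0 : x ≠ 0 := by rintro rfl; simp at hi
    have bi : b i = 0 := by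
      have := congrFun e i
      simpa [mulVec, dotProduct, Pi.single_apply, apply_ite] using this
    have r1 : ∀ j, j ≠ i → ∑ k, (∑ i, c i j k * x i) * b k = 0 := by
      intro j hj
      have := congrFun e j
      simpa [mulVec, dotProduct, updateRow_ne hj, hM] using this
    have r2 : ∑ j, x j * ∑ k, (∑ i, c i j k * x i) * b k = 0 := by
      simp only [Finset.mul_sum]
      rw [Finset.sum_comm]
      refine Finset.sum_eq_zero fun k _ => ?_
      have := quad (RingHom.id F2) x k
      simp only [RingHom.id_apply] at this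
      rw [← zero_mul (b k), ← this, Finset.sum_mul]
      refine Finset.sum_congr rfl fun j _ => ?_
      rw [Finset.sum_congr rfl fun i _ => by rw [s23 i j k]]
      ring
    rw [Finset.sum_eq_single i (fun j _ hj => by rw [r1 j hj, mul_zero]) (by simp), hi, one_mul] at r2
    rcases ns x b x0 (fun j => by by_cases hj : j = i; exacts [hj ▸ r2, r1 j hj]) with rfl | rfl
    · exact hb rfl
    · rw [hi] at bi; exact one_ne_zero bi
  have D0 : adjugate M i0 i0 ≠ 0 := fun e => by
    have := ev (Pi.single i0 1) i0 (by simp)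
    rw [e, map_zero] at this
    exact zero_ne_one this
  have ker : ∀ b : Fin n → MvPolynomial (Fin n) F2, M *ᵥ b = 0 → b i0 = 0 → b = 0 := by
    intro b h1 h2
    by_contra hb
    refine D0 ?_
    rw [adjugate_apply]
    refine exists_mulVec_eq_zero_iff.1 ⟨b, hb, funext fun j => ?_⟩
    by_cases hj : j = i0
    · subst hj
      simpa [mulVec, dotProduct, Pi.single_apply] using h2
    · have := congrFun h1 j
      simpa [mulVec, dotProduct, updateRow_ne hj] using this
  have col : ∀ j k, X i0 * adjugate M j k = adjugate M i0 k * X j := by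
    intro j k
    have h1 : M *ᵥ (fun j => adjugate M j k) = 0 := funext fun l => by
      have := congrFun (congrFun (mul_adjugate M) l) k
      rw [det0, zero_smul] at this
      exact this
    have := ker ((X i0 : MvPolynomial (Fin n) F2) • (fun j => adjugate M j k) -
        adjugate M i0 k • fun k => (X k : MvPolynomial (Fin n) F2))
      (by rw [mulVec_sub, mulVec_smul, mulVec_smul, h1, MX, smul_zero, smul_zero, sub_zero])
      (by simp [mul_comm])
    have := congrFun this j
    simp only [Pi.sub_apply, Pi.smul_apply, smul_eq_mul, Pi.zero_apply] at this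
    exact sub_eq_zero.1 this
  have Asym : ∀ j k, adjugate M j k = adjugate M k j := fun j k => by
    have := congrFun (congrFun (adjugate_transpose M) k) j
    rwa [Msym] at this
  have sq : ∀ j, X i0 ^ 2 * adjugate M j j = adjugate M i0 i0 * X j ^ 2 := fun j => by
    have h1 := col j j
    have h2 := col j i0
    rw [Asym j i0] at h2
    linear_combination (X i0) * h1 + (X j) * h2
  obtain ⟨i1, hi1⟩ : ∃ i1 : Fin n, i1 ≠ i0 := by
    have : Nontrivial (Fin n) := Fin.nontrivial_iff_two_le.2 (by omega)
    exact exists_ne i0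
  obtain ⟨g, hg⟩ : (X i0 : MvPolynomial (Fin n) F2) ^ 2 ∣ adjugate M i0 i0 := by
    have pr : Prime (X i0 : MvPolynomial (Fin n) F2) := X_prime
    have dv : (X i0 : MvPolynomial (Fin n) F2) ^ 2 ∣ adjugate M i0 i0 * X i1 ^ 2 := by
      rw [← sq i1]; exact dvd_mul_right _ _
    refine pr.pow_dvd_of_dvd_mul_right 2 (fun h => ?_) dv
    have := pr.dvd_of_dvd_pow h
    rw [X_dvd_X] at this
    exact hi1 this.symm
  have hj : ∀ j, adjugate M j j = g * X j ^ 2 := fun j => by
    have := sq j
    rw [hg, mul_assoc] at this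
    exact mul_left_cancel₀ (pow_ne_zero 2 (X_ne_zero i0)) this
  have hom : (adjugate M i0 i0).IsHomogeneous (n - 1) := by
    rw [adjugate_apply, det_apply']
    refine IsHomogeneous.sum _ _ _ fun σ _ => ?_
    have e : n - 1 = 0 + ∑ j, if σ j = i0 then 0 else 1 := by
      rw [Equiv.sum_comp σ fun j => if j = i0 then 0 else 1, Finset.sum_ite, Finset.sum_const_zero]
      simp [Finset.filter_ne', Finset.card_erase_of_mem]
    rw [e]
    refine IsHomogeneous.mul ?_ (IsHomogeneous.prod _ _ _ fun j _ => ?_)
    · rw [← map_intCast (C : F2 →+* MvPolynomial (Fin n) F2)]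
      exact isHomogeneous_C _ _
    · split_ifs with h
      · rw [h, updateRow_self, Pi.single_apply]
        split_ifs
        exacts [isHomogeneous_one _ _, isHomogeneous_zero _ _ _]
      · rw [updateRow_ne h, hM]
        exact IsHomogeneous.sum _ _ _ fun i _ => isHomogeneous_C_mul_X _ _
  have g0 : g ≠ 0 := by rintro rfl; exact D0 (by rw [hg, mul_zero])
  have deg : g.totalDegree < (Fintype.card F2 - 1) * Fintype.card (Fin n) := by
    have h1 := hom.totalDegree_le
    rw [hg, totalDegree_mul_of_isDomain (pow_ne_zero 2 (X_ne_zero i0)) g0] at h1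
    simp only [ZMod.card, Fintype.card_fin]
    omega
  have z := sum_eval_eq_zero g deg
  have e0 : eval 0 g = 0 := by
    have h1 := hom.coeff_eq_zero (d := Finsupp.single i0 2 + 0) (by simp; omega)
    rw [hg, X_pow_eq_monomial, coeff_monomial_mul, one_mul] at h1
    rw [eval_zero]
    exact h1
  have e1 : ∀ x : Fin n → F2, eval x g = 1 + if x = 0 then 1 else 0 := by
    intro x
    split_ifs with h
    · rw [h, e0]; decide
    · obtain ⟨j, hx⟩ := Function.ne_iff.1 h
      have := ev x j (f2_ne_zero.1 hx)
      rw [hj, map_mul, map_pow, eval_X, f2_ne_zero.1 hx] at this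
      simpa using this
  simp only [e1, Finset.sum_add_distrib, Finset.sum_ite_eq', Finset.mem_univ, if_true, Finset.sum_const,
    Finset.card_univ, Fintype.card_fun, ZMod.card, Fintype.card_fin, nsmul_eq_mul, mul_one] at z
  rw [Nat.cast_pow, show ((2 : ℕ) : F2) = 0 by decide, zero_pow (by omega)] at z
  exact absurd z (by decide)

theorem ns_form {A : Type*} [AddCommGroup A] [Module F2 A] [Finite A] (φ : A →ₗ[F2] A →ₗ[F2] A →ₗ[F2] F2)
    (s12 : ∀ x y z, φ x y z = φ y x z) (s23 : ∀ x y z, φ x y z = φ x z y) (alt : ∀ x z, φ x x z = 0)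
    (ns : ∀ x y, x ≠ 0 → y ≠ 0 → y ≠ x → ∃ z, φ x y z ≠ 0) : finrank F2 A ≤ 3 := by
  by_contra hn
  set e := Module.finBasis F2 A
  refine ns_coord (n := finrank F2 A) (by omega) (fun i j k => φ (e i) (e j) (e k))
    (fun _ _ _ => s12 _ _ _) (fun _ _ _ => s23 _ _ _) (fun _ _ => alt _ _) fun x b hx h => ?_
  by_contra hb
  push Not at hb
  obtain ⟨z, hz⟩ := ns (e.equivFun.symm x) (e.equivFun.symm b) (e.equivFun.symm.map_ne_zero_iff.2 hx)
    (e.equivFun.symm.map_ne_zero_iff.2 hb.1) (e.equivFun.symm.injective.ne hb.2)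
  refine hz ?_
  have : φ (e.equivFun.symm x) (e.equivFun.symm b) = 0 := e.ext fun j => by
    rw [s23, LinearMap.zero_apply, ← h j, Basis.equivFun_symm_apply, Basis.equivFun_symm_apply]
    simp only [map_sum, map_smul, LinearMap.sum_apply, LinearMap.smul_apply, smul_eq_mul]
    refine Finset.sum_congr rfl fun k _ => ?_
    rw [mul_comm]
    congr 1
    exact Finset.sum_congr rfl fun i _ => mul_comm _ _
  rw [this, LinearMap.zero_apply]

end Cfsg.Lib.CK2
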