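import Cfsg.Agent.Lib.CK2.D
import Cfsg.Agent.Lib.Perm.Centralizer
import Cfsg.Agent.S0675

/-! The spread case, and prime degree. -/

set_option autoImplicit false

namespace Cfsg.Lib.CK2

open Module Submodule MulAction

section perm

variable {G α : Type*} [Group G] [MulAction G α] [FaithfulSMul G α] [Finite α]

theorem prime_dich [IsPretransitive G α] (hp : (Nat.card α).Prime) :
    (∀ a b c d : α, a ≠ b → c ≠ d → ∃ g : G, g • a = c ∧ g • b = d) ∨
      ∃ M : Subgroup G, M.Normal ∧ Nat.card M = Nat.card α ∧ IsPretransitive M α := by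
  classical
  have := Fintype.ofFinite α
  have : Finite G := Finite.of_injective _ (toPerm_injective (α := G) (β := α))
  haveI : IsPretransitive (toPermHom G α).range α := ⟨fun a b => by
    obtain ⟨g, rfl⟩ := exists_smul_eq G a b
    exact ⟨⟨_, g, rfl⟩, rfl⟩⟩
  rcases Cfsg.Agent.S0675.result (by rwa [← Nat.card_eq_fintype_card]) (toPermHom G α).range with h | h
  · right
    haveI : Group.IsSolvable G := Group.isSolvable_of_isSolvable_injective
      (f := (toPermHom G α).rangeRestrict) fun x y e => toPerm_injective (β := α) (congrArg Subtype.val e)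
    haveI := IsPreprimitive.of_prime_card (G := G) hp
    have : Nontrivial α := Finite.one_lt_card_iff_nontrivial.1 hp.one_lt
    obtain ⟨a, b, hab⟩ := exists_pair_ne α
    obtain ⟨g, rfl⟩ := exists_smul_eq G a b
    obtain ⟨M, hM, -, h0, hmin⟩ := Cfsg.Lib.Perm.exists_minimal_normal_le (⊤ : Subgroup G) fun e => by
      have : g ∈ (⊤ : Subgroup G) := trivial
      rw [e, Subgroup.mem_bot] at this
      exact hab (by rw [this, one_smul])
    have := Cfsg.Lib.Perm.comm_of_minimal_normal_of_solvable hmin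
    have ht := Cfsg.Lib.Perm.isPretransitive_of_normal (α := α) M h0
    refine ⟨M, hM, ?_, ht⟩
    rw [← index_stabilizer_of_transitive M a, Cfsg.Lib.Perm.stabilizer_eq_bot_of_comm ht, Subgroup.index_bot]
  · left
    intro a b c d h1 h2
    obtain ⟨⟨_, g, rfl⟩, e⟩ := is_two_pretransitive_iff.1 h h1 h2
    exact ⟨g, e⟩

theorem two_fixed {M : Subgroup G} [hM : M.Normal] (hp : (Nat.card α).Prime) (hc : Nat.card M = Nat.card α)
    (ht : IsPretransitive M α) {g : G} {a b : α} (hab : a ≠ b) (ha : g • a = a) (hb : g • b = b) : g = 1 := by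
  haveI : Fact (Nat.card α).Prime := ⟨hp⟩
  haveI : IsCyclic M := isCyclic_of_prime_card hc
  obtain ⟨m, hm⟩ := ht.exists_smul_eq a b
  have m1 : m ≠ 1 := by rintro rfl; exact hab (by rw [← hm, one_smul])
  have hs := Cfsg.Lib.Perm.stabilizer_eq_bot_of_comm ht a
  have e : m⁻¹ * ⟨g * m * g⁻¹, hM.conj_mem _ m.2 g⟩ ∈ stabilizer M a := by
    rw [mem_stabilizer_iff, mul_smul, inv_smul_eq_iff, hm]
    change (g * m * g⁻¹) • a = b
    rw [mul_smul, mul_smul, inv_smul_eq_iff.2 ha.symm]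
    change g • m • a = b
    rw [hm, hb]
  rw [hs, Subgroup.mem_bot, inv_mul_eq_one] at e
  have e' : Commute (m : G) g := by
    have := congrArg Subtype.val e
    simp only at this
    rw [eq_mul_inv_iff_mul_eq] at this
    exact this
  refine Cfsg.Lib.Perm.eq_one_of_centralizes ht (fun k hk => ?_) ha
  obtain ⟨i, hi⟩ := mem_zpowers_of_prime_card hc m1 (g' := ⟨k, hk⟩)
  have := congrArg Subtype.val hi
  simp only [SubgroupClass.coe_zpow] at this
  rw [← this]
  exact e'.zpow_left i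

end perm

variable {Γ A : Type*} [Group Γ] [AddCommGroup A] [Module F2 A] [DistribMulAction Γ A] [Finite A]

/-- The action on nonzero vectors. -/
instance nzAct : MulAction Γ {a : A // a ≠ 0} where
  smul g a := ⟨g • (a : A), smul_ne_zero' g a.2⟩
  one_smul a := Subtype.ext (one_smul _ _)
  mul_smul g h a := Subtype.ext (mul_smul _ _ _)

omit [Finite A] in
@[simp] theorem coe_nz (g : Γ) (a : {a : A // a ≠ 0}) : ((g • a : {a : A // a ≠ 0}) : A) = g • (a : A) := rfl

theorem AT.top_of_prime (h : AT Γ A) (hp : (2 ^ finrank F2 A - 1).Prime) {y c : A} (hc : Good Γ y c) :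
    W Γ y = ⊤ := by
  rw [← card_ne_zero] at hp
  haveI : IsPretransitive (toPermHom Γ {a : A // a ≠ 0}).range {a : A // a ≠ 0} := ⟨fun a b => by
    obtain ⟨g, e⟩ := h.trans a.2 b.2
    exact ⟨⟨_, g, rfl⟩, Subtype.ext e⟩⟩
  rw [eq_top_iff]
  intro u _
  by_contra hu
  have u0 : u ≠ 0 := fun e => hu (e ▸ zero_mem _)
  have uy : u ≠ y := fun e => hu (e ▸ self_mem_W _)
  rcases prime_dich (G := (toPermHom Γ {a : A // a ≠ 0}).range) hp with k | ⟨M, hM, h1, h2⟩
  · obtain ⟨⟨_, g, rfl⟩, e1, e2⟩ := k ⟨y, hc.y0⟩ ⟨c, hc.z0⟩ ⟨y, hc.y0⟩ ⟨u, u0⟩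
      (fun e => hc.ne (congrArg Subtype.val e).symm) fun e => uy (congrArg Subtype.val e).symm
    have := hc.smul g
    rw [show g • y = y from congrArg Subtype.val e1, show g • c = u from congrArg Subtype.val e2] at this
    exact hu this.mem
  · obtain ⟨g, g1, g2, g3⟩ := hc.mv u (fun k => hu (hc.span_le k).1) y (mem_span_two.2 (by simp))
    have := two_fixed hp h1 h2 (g := ⟨_, g, rfl⟩) (a := ⟨y, hc.y0⟩) (b := ⟨c, hc.z0⟩)
      (fun e => hc.ne (congrArg Subtype.val e).symm) (Subtype.ext g1) (Subtype.ext g2)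
    have := congrArg (fun σ : (toPermHom Γ {a : A // a ≠ 0}).range => ((σ • ⟨u, u0⟩ : {a : A // a ≠ 0}) : A)) this
    simp only [one_smul] at this
    change g • u = u at this
    rw [g3, add_eq_left] at this
    exact hc.y0 this

/-- `g + 1`. -/
def eta (A : Type*) [AddCommGroup A] [Module F2 A] [DistribMulAction Γ A] (g : Γ) : A →ₗ[F2] A :=
  (lin A g : A →ₗ[F2] A) + LinearMap.id

omit [Finite A] in
@[simp] theorem eta_apply (g : Γ) (a : A) : eta A g a = g • a + a := rfl

omit [Finite A] in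
theorem mem_ker_eta {g : Γ} {a : A} : a ∈ LinearMap.ker (eta A g) ↔ g • a = a := by
  rw [LinearMap.mem_ker, eta_apply, add_eq_zero']

theorem finrank_le_add (φ : A →ₗ[F2] A) {Y Z : Submodule F2 A} (h : ∀ a ∈ Y, φ a ∈ Z) :
    finrank F2 Y ≤ finrank F2 Z + finrank F2 ↥(Y ⊓ LinearMap.ker φ) := by
  have e1 := (φ.domRestrict Y).finrank_range_add_finrank_ker
  have e2 : finrank F2 (LinearMap.range (φ.domRestrict Y)) ≤ finrank F2 Z := finrank_mono (by
    rintro _ ⟨a, rfl⟩; exact h a a.2)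
  have e3 : finrank F2 (LinearMap.ker (φ.domRestrict Y)) = finrank F2 ↥(Y ⊓ LinearMap.ker φ) := by
    rw [← finrank_map_subtype_eq Y, LinearMap.ker_domRestrict, map_comap_subtype]
  omega

theorem finrank_le_two_mul {g : Γ} {Y : Submodule F2 A} (h : ∀ a ∈ Y, g • a ∈ Y)
    (h2 : ∀ a ∈ Y, g • g • a = a) : finrank F2 Y ≤ 2 * finrank F2 ↥(Y ⊓ LinearMap.ker (eta A g)) := by
  rw [two_mul]
  exact finrank_le_add _ fun a ha => ⟨add_mem (h a ha) ha, mem_ker_eta.2 (by
    rw [eta_apply, smul_add, h2 a ha, add_comm])⟩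

variable [Finite Γ]

theorem AT.spread (h : AT Γ A) (hs : ∀ y c : A, Good Γ y c → W Γ c = W Γ y) {y : A} (hy : y ≠ 0)
    (hT : W Γ y ≠ ⊤) (h3 : 3 ≤ finrank F2 (W Γ y)) {g : Γ} {H : Submodule F2 A} {c : A}
    (hH : H ≤ W Γ y) (hr : finrank F2 H + 1 = finrank F2 (W Γ y)) (hc : c ∈ H) (c0 : c ≠ 0)
    (g1 : ∀ a ∈ H, g • a = a) (g2 : ∀ a ∈ W Γ y, a ∉ H → g • a = a + c) : False := by
  have hA : 2 ≤ finrank F2 A := by have := (W Γ y).finrank_le; omega
  have sp : ∀ {u v : A}, v ≠ 0 → v ∈ W Γ u → W Γ v = W Γ u := fun {u v} v0 k => by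
    by_cases e : v = u
    exacts [e ▸ rfl, hs u v (good_of_mem k v0 e)]
  set w := finrank F2 (W Γ y) with hw
  -- a 2-element with the same action on `W y`
  obtain ⟨k, m, hm, hkm⟩ := Nat.exists_eq_two_pow_mul_odd (orderOf_pos g).ne'
  set s := g ^ m with hsdef
  have s2 : s ^ 2 ^ k = 1 := by rw [hsdef, ← pow_mul, mul_comm, ← hkm, pow_orderOf_eq_one]
  have gg : ∀ a ∈ W Γ y, g • g • a = a := fun a ha => by
    by_cases k : a ∈ H
    · rw [g1 a k, g1 a k]
    · rw [g2 a ha k, smul_add, g2 a ha k, g1 c hc, add_add_cancel]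
  have sg' : ∀ a ∈ W Γ y, s • a = g • a := fun a ha => by
    obtain ⟨j, rfl⟩ := hm
    have : ∀ i : ℕ, (g ^ (2 * i)) • a = a := fun i => by
      induction i with
      | zero => simp
      | succ i ih => rw [mul_add, pow_add, mul_smul, mul_one, sq, mul_smul, gg a ha, ih]
    rw [hsdef, pow_succ', mul_smul, this]
  have s1 : ∀ a ∈ H, s • a = a := fun a ha => by rw [sg' a (hH ha), g1 a ha]
  have sW : ∀ a ∈ W Γ y, s • a ∈ W Γ y := fun a ha => by
    rw [sg' a ha]
    by_cases k : a ∈ H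
    · rwa [g1 a k]
    · rw [g2 a ha k]; exact add_mem ha (hH hc)
  have ss : ∀ a ∈ W Γ y, (s ^ 2) • a = a := fun a ha => by
    rw [sq, mul_smul, sg' _ (sW a ha), sg' a ha, gg a ha]
  have powI : ∀ {X : Submodule F2 A}, (∀ a ∈ X, s • a ∈ X) → ∀ i : ℕ, ∀ a ∈ X, (s ^ i) • a ∈ X := by
    intro X hX i
    induction i with
    | zero => simp
    | succ i ih => intro a ha; rw [pow_succ', mul_smul]; exact hX _ (ih a ha)
  haveI : Inv (Subgroup.zpowers s) (W Γ y) := ⟨fun t ht => by
    obtain ⟨i, rfl⟩ := mem_powers_iff_mem_zpowers.2 ht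
    exact powI sW i⟩
  obtain ⟨q, hq, hq'⟩ := exists_fixed (A := A ⧸ W Γ y) (Δ := Subgroup.zpowers s)
    (fun t => ⟨k, by
      obtain ⟨_, i, rfl⟩ := t
      exact Subtype.ext (by
        simp only [SubgroupClass.coe_pow, OneMemClass.coe_one]
        rw [← zpow_natCast, ← zpow_mul, mul_comm, zpow_mul, zpow_natCast, s2, one_zpow])⟩) (by
      have := (W Γ y).finrank_quotient_add_finrank
      have := finrank_lt hT
      omega)
  induction q using Submodule.Quotient.induction_on with | H u =>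
  rw [Ne, Submodule.Quotient.mk_eq_zero] at hq
  have su : s • u + u ∈ W Γ y := by
    have := hq' ⟨s, Subgroup.mem_zpowers s⟩
    rwa [smul_mk, Submodule.Quotient.eq, sub_eq_add_neg, neg_eq] at this
  have u0 : u ≠ 0 := fun e => hq (e ▸ zero_mem _)
  have disj : ∀ {a b : A}, b ≠ 0 → b ∉ W Γ a → W Γ a ⊓ W Γ b = ⊥ := fun {a b} b0 k => by
    rw [eq_bot_iff]
    intro v hv
    by_contra v0
    exact k (sp v0 hv.1 ▸ sp v0 hv.2 ▸ self_mem_W b)
  set X := W Γ y ⊔ W Γ u with hX
  have rX : finrank F2 X = 2 * w := by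
    have := finrank_sup_add_finrank_inf_eq (W Γ y) (W Γ u)
    rw [disj u0 hq, finrank_bot, h.finrank_W u0 hy, ← hX] at this
    omega
  have mX : ∀ v ∈ X, W Γ v ≤ X := fun v hv => by
    obtain ⟨a, ha, b, hb, rfl⟩ := mem_sup.1 hv
    by_cases a0 : a = 0
    · by_cases b0 : b = 0
      · rw [a0, b0, add_zero, W_zero]; exact bot_le
      · rw [a0, zero_add, sp b0 hb]; exact le_sup_right
    by_cases b0 : b = 0
    · rw [b0, add_zero, sp a0 ha]; exact le_sup_left
    have := h.W_add_le hA a0 b0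
    rwa [sp a0 ha, sp b0 hb] at this
  have sX : ∀ v ∈ X, s • v ∈ X := fun v hv => by
    obtain ⟨a, ha, b, hb, rfl⟩ := mem_sup.1 hv
    rw [smul_add]
    refine add_mem (mem_sup_left (sW a ha)) (mX (s • u) ?_ ((smul_mem_W s).2 hb))
    rw [← add_add_cancel (s • u) u]
    exact add_mem (mem_sup_left su) (mem_sup_right (self_mem_W u))
  have K1 : ∀ t : Γ, w < finrank F2 ↥(X ⊓ LinearMap.ker (eta A t)) → ∀ v ∈ X, t • v = v := by
    intro t ht
    have fx : ∀ v ∈ X, v ≠ 0 → ∃ d ∈ W Γ v, d ≠ 0 ∧ t • d = d := fun v hv v0 => by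
      by_contra k
      push Not at k
      have e : (X ⊓ LinearMap.ker (eta A t)) ⊓ W Γ v = ⊥ := by
        rw [eq_bot_iff]
        intro d hd
        by_contra d0
        exact k d hd.2 d0 (mem_ker_eta.1 hd.1.2)
      have e1 := finrank_sup_add_finrank_inf_eq (X ⊓ LinearMap.ker (eta A t)) (W Γ v)
      have e2 := finrank_mono (sup_le inf_le_left (mX v hv) : (X ⊓ LinearMap.ker (eta A t)) ⊔ W Γ v ≤ X)
      rw [e, finrank_bot, h.finrank_W v0 hy] at e1
      omega
    have mv : ∀ v ∈ X, v ≠ 0 → t • v + v ∈ W Γ v := fun v hv v0 => by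
      obtain ⟨d, hd, d0, e⟩ := fx v hv v0
      refine add_mem ?_ (self_mem_W v)
      rw [← sp d0 hd, ← e, smul_mem_W, sp d0 hd]
      exact self_mem_W v
    obtain ⟨d, hd, d0, e⟩ := fx y (mem_sup_left (self_mem_W y)) hy
    have out : ∀ v ∈ X, v ∉ W Γ y → t • v = v := fun v hv k => by
      have v0 : v ≠ 0 := fun e => k (e ▸ zero_mem _)
      have k' : v + d ∉ W Γ y := fun k' => k (by simpa [add_add_cancel] using add_mem k' hd)
      have v1 : v + d ≠ 0 := fun e => k' (e ▸ zero_mem _)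
      have a1 := mv v hv v0
      have a2 := mv (v + d) (add_mem hv (mem_sup_left hd)) v1
      rw [smul_add, e, add_add_add_comm, add_self, add_zero] at a2
      have : t • v + v ∈ W Γ v ⊓ W Γ (v + d) := ⟨a1, a2⟩
      rw [disj v1 fun k2 => k (by
        have : d ∈ W Γ v := by simpa [add_add_cancel''] using add_mem k2 (self_mem_W v)
        rw [← sp d0 hd, sp d0 this]
        exact self_mem_W v), mem_bot, add_eq_zero'] at this
      exact this
    intro v hv
    by_cases k : v ∈ W Γ y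
    · have a1 := out (v + u) (add_mem hv (mem_sup_right (self_mem_W u))) fun k' =>
        hq (by simpa [add_add_cancel''] using add_mem k' k)
      rwa [smul_add, out u (mem_sup_right (self_mem_W u)) hq, add_left_inj] at a1
    · exact out v hv k
  obtain ⟨a₀, ha₀, ha₀'⟩ : ∃ a ∈ W Γ y, a ∉ H := by
    by_contra k
    push Not at k
    have := finrank_mono (k : W Γ y ≤ H)
    omega
  have kerH : ∀ a ∈ W Γ y, s • a = a → a ∈ H := fun a ha e => by
    by_contra k
    rw [sg' a ha, g2 a ha k, add_eq_left] at e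
    exact c0 e
  have sn : finrank F2 ↥(X ⊓ LinearMap.ker (eta A s)) ≤ w := by
    by_contra k
    exact ha₀' (kerH a₀ ha₀ (K1 s (not_le.1 k) a₀ (mem_sup_left ha₀)))
  have eqW : ∀ t : Γ, (∀ a ∈ W Γ y, t • a = a) → (¬ ∀ v ∈ X, t • v = v) →
      X ⊓ LinearMap.ker (eta A t) = W Γ y := fun t h1 h2 =>
    (eq_of_le_of_finrank_le (fun a ha => mem_inf.2 ⟨mem_sup_left ha, mem_ker_eta.2 (h1 a ha)⟩)
      (not_lt.1 fun k => h2 (K1 t k))).symm
  by_cases hss : ∀ v ∈ X, (s ^ 2) • v = v
  · have hss' : ∀ v ∈ X, s • s • v = v := fun v hv => by rw [← mul_smul, ← sq, hss v hv]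
    have e1 := finrank_le_two_mul sX hss'
    obtain ⟨v, hv, hv'⟩ : ∃ v ∈ X ⊓ LinearMap.ker (eta A s), v ∉ W Γ y := by
      by_contra k
      push Not at k
      have := finrank_mono (fun v hv => kerH v (k v hv) (mem_ker_eta.1 hv.2) :
        X ⊓ LinearMap.ker (eta A s) ≤ H)
      omega
    have v0 : v ≠ 0 := fun e => hv' (e ▸ zero_mem _)
    have e2 := finrank_le_two_mul (g := s) (Y := W Γ v)
      (fun a ha => by rw [← mem_ker_eta.1 hv.2]; exact (smul_mem_W s).2 ha)
      fun a ha => hss' a (mX v hv.1 ha)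
    have e3 := finrank_sup_add_finrank_inf_eq H (W Γ v ⊓ LinearMap.ker (eta A s))
    have e4 : H ⊓ (W Γ v ⊓ LinearMap.ker (eta A s)) = ⊥ :=
      eq_bot_iff.2 ((inf_le_inf hH inf_le_left).trans (disj v0 hv').le)
    have e5 := finrank_mono (sup_le (fun a ha => ⟨mem_sup_left (hH ha), mem_ker_eta.2 (s1 a ha)⟩)
      (inf_le_inf_right _ (mX v hv.1)) : H ⊔ (W Γ v ⊓ LinearMap.ker (eta A s)) ≤ X ⊓ LinearMap.ker (eta A s))
    rw [e4, finrank_bot] at e3
    rw [h.finrank_W v0 hy] at e2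
    omega
  · have ex : ∃ j, ∀ v ∈ X, (s ^ 2 ^ (j + 1)) • v = v := ⟨k, fun v _ => by
      rw [pow_succ, pow_mul, s2, one_pow, one_smul]⟩
    classical
    obtain ⟨j, hj⟩ : ∃ j, Nat.find ex = j + 1 := Nat.exists_eq_succ_of_ne_zero fun e => hss (by
      simpa [e] using Nat.find_spec ex)
    have n1 := Nat.find_min ex (m := j) (by omega)
    have n2 := Nat.find_spec ex
    rw [hj] at n2
    set t := s ^ 2 ^ (j + 1) with ht
    have tW : ∀ a ∈ W Γ y, t • a = a := fun a ha => by
      rw [ht, pow_succ', pow_mul]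
      exact (Subgroup.pow_mem (stabilizer Γ a) (ss a ha) _)
    have k1 := eqW t tW n1
    have k2 := eqW _ ss hss
    have tX : ∀ v ∈ X, t • v + v ∈ W Γ y := fun v hv => by
      rw [← k1]
      refine ⟨add_mem (powI sX _ v hv) hv, mem_ker_eta.2 ?_⟩
      rw [smul_add, ← mul_smul, ← sq, ht, ← pow_mul, ← pow_succ, n2 v hv, add_comm]
    have e1 : finrank F2 X ≤ finrank F2 ↥(X ⊓ H.comap (eta A t)) + 1 :=
      finrank_le_succ fun a ha b hb ha' hb' => ⟨add_mem ha hb, by
        rw [SetLike.mem_coe, mem_comap, map_add]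
        exact cod1 hH hr (tX a ha) (tX b hb) (fun k => ha' ⟨ha, k⟩) fun k => hb' ⟨hb, k⟩⟩
    have e2 := finrank_le_add (eta A (s ^ 2)) (Y := X ⊓ H.comap (eta A t)) (Z := span F2 {c}) (by
      intro v hv
      have cm : t • s • v = s • t • v := by rw [← mul_smul, ← mul_smul, ht, ← pow_succ, ← pow_succ']
      have b1 : s • v + v ∈ W Γ y := by
        rw [← k1]
        refine ⟨add_mem (sX v hv.1) hv.1, mem_ker_eta.2 ?_⟩
        have := s1 _ hv.2
        rw [eta_apply, smul_add] at this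
        rw [smul_add, cm, ← add_eq_zero', add_add_add_comm, this, add_self]
      have b2 : eta A (s ^ 2) v = s • (s • v + v) + (s • v + v) := by
        rw [eta_apply, sq, mul_smul, smul_add, add_assoc, add_add_cancel']
      rw [b2, mem_span_one]
      by_cases k : s • v + v ∈ H
      · rw [s1 _ k, add_self]; exact Or.inl rfl
      · rw [sg' _ b1, g2 _ b1 k, add_add_cancel'']; exact Or.inr rfl)
    have e3 := finrank_mono (k2 ▸ inf_le_inf_right _ inf_le_left :
      (X ⊓ H.comap (eta A t)) ⊓ LinearMap.ker (eta A (s ^ 2)) ≤ W Γ y)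
    rw [finrank_span_singleton c0] at e2
    omega

end Cfsg.Lib.CK2
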