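import Cfsg.Agent.Lib.CK2.E
import Cfsg.Agent.Lib.CK2.F

/-! Doubly transitive linear groups: transport, closures, invariant trilinear forms. -/

set_option autoImplicit false

namespace Cfsg.Lib.CK2

open Module Submodule MulAction

section iso

variable {Γ Γ' A A' : Type*} [Group Γ] [AddCommGroup A] [Module F2 A] [DistribMulAction Γ A]
  [Group Γ'] [AddCommGroup A'] [Module F2 A'] [DistribMulAction Γ' A']

/-- The closure of a vector under `W`. -/
def Cl (Γ : Type*) [Group Γ] [DistribMulAction Γ A] (y : A) : Submodule F2 A :=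
  sInf {X | y ∈ X ∧ Closed Γ X}

theorem self_mem_Cl (y : A) : y ∈ Cl Γ y := mem_sInf.2 fun _ h => h.1

theorem Cl_le {y : A} {X : Submodule F2 A} (h1 : y ∈ X) (h2 : Closed Γ X) : Cl Γ y ≤ X :=
  sInf_le ⟨h1, h2⟩

theorem Cl_closed (y : A) : Closed Γ (Cl Γ y) := fun u hu u0 =>
  le_sInf fun X hX => hX.2 u (Cl_le hX.1 hX.2 hu) u0

/-- Isomorphic actions. -/
structure Iso (Γ Γ' : Type*) [Group Γ] [DistribMulAction Γ A] [Group Γ'] [DistribMulAction Γ' A']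
    (e : A ≃ₗ[F2] A') : Prop where
  l : ∀ g : Γ, ∃ g' : Γ', ∀ a, g' • e a = e (g • a)
  r : ∀ g' : Γ', ∃ g : Γ, ∀ a, g' • e a = e (g • a)

variable {e : A ≃ₗ[F2] A'}

theorem Iso.symm (h : Iso Γ Γ' e) : Iso Γ' Γ e.symm :=
  ⟨fun g' => (h.r g').imp fun g k a => by rw [LinearEquiv.eq_symm_apply, ← k, e.apply_symm_apply],
    fun g => (h.l g).imp fun g' k a => by rw [LinearEquiv.eq_symm_apply, ← k, e.apply_symm_apply]⟩

theorem map_mem_span_two (e : A ≃ₗ[F2] A') {y z u : A} :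
    e u ∈ span F2 {e y, e z} ↔ u ∈ span F2 {y, z} := by
  rw [mem_span_two, mem_span_two, ← map_add, e.map_eq_zero_iff]
  simp only [e.injective.eq_iff]

theorem Iso.good' (h : Iso Γ Γ' e) {y z : A} (k : Good Γ y z) : Good Γ' (e y) (e z) :=
  ⟨e.map_ne_zero_iff.2 k.y0, e.map_ne_zero_iff.2 k.z0, e.injective.ne k.ne, fun u hu a ha => by
    obtain ⟨u, rfl⟩ := e.surjective u
    obtain ⟨a, rfl⟩ := e.surjective a
    rw [map_mem_span_two] at hu ha
    obtain ⟨g, g1, g2, g3⟩ := k.mv u hu a ha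
    obtain ⟨g', hg⟩ := h.l g
    exact ⟨g', by rw [hg, g1], by rw [hg, g2], by rw [hg, g3, map_add]⟩⟩

theorem Iso.good (h : Iso Γ Γ' e) {y z : A} : Good Γ' (e y) (e z) ↔ Good Γ y z :=
  ⟨fun k => by simpa using h.symm.good' k, h.good'⟩

theorem Iso.mem_W (h : Iso Γ Γ' e) {y z : A} : e z ∈ W Γ' (e y) ↔ z ∈ W Γ y := by
  rw [CK2.mem_W, CK2.mem_W, h.good, e.map_eq_zero_iff, e.injective.eq_iff]

theorem Iso.mem_W2' (h : Iso Γ Γ' e) {y z : A} (k : z ∈ W2 Γ y) : e z ∈ W2 Γ' (e y) :=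
  (iSup₂_le (a := (W2 Γ' (e y)).comap (e : A →ₗ[F2] A')) fun _ hc _ hv =>
    W_le_W2 (h.mem_W.2 hc) (h.mem_W.2 hv)) k

theorem Iso.mem_W2 (h : Iso Γ Γ' e) {y z : A} : e z ∈ W2 Γ' (e y) ↔ z ∈ W2 Γ y :=
  ⟨fun k => by simpa using h.symm.mem_W2' k, h.mem_W2'⟩

theorem Iso.mem_Cl' (h : Iso Γ Γ' e) {y z : A} (k : z ∈ Cl Γ y) : e z ∈ Cl Γ' (e y) :=
  Cl_le (X := (Cl Γ' (e y)).comap (e : A →ₗ[F2] A')) (self_mem_Cl _)
    (fun u hu u0 _ hv => Cl_closed _ (e u) hu (e.map_ne_zero_iff.2 u0) (h.mem_W.2 hv)) k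

theorem Iso.mem_Cl (h : Iso Γ Γ' e) {y z : A} : e z ∈ Cl Γ' (e y) ↔ z ∈ Cl Γ y :=
  ⟨fun k => by simpa using h.symm.mem_Cl' k, h.mem_Cl'⟩

theorem iso_lin (g : Γ) : Iso Γ Γ (lin A g) :=
  ⟨fun k => ⟨g * k * g⁻¹, fun a => by simp [mul_smul]⟩, fun k => ⟨g⁻¹ * k * g, fun a => by simp [mul_smul]⟩⟩

theorem AT.Cl_eq [Finite A] (h : AT Γ A) {y u : A} (hy : y ≠ 0) (hu : u ∈ Cl Γ y) (u0 : u ≠ 0) :
    Cl Γ u = Cl Γ y := by
  refine eq_of_le_of_finrank_eq (Cl_le hu (Cl_closed y)) ?_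
  obtain ⟨g, rfl⟩ := h.trans hy u0
  exact finrank_eq_of_smul g fun a => (iso_lin g).mem_Cl

/-- The quotient by a point. -/
abbrev Q (x : A) := A ⧸ span F2 {x}

/-- The projection. -/
abbrev pr (x y : A) : Q x := Submodule.Quotient.mk y

theorem pr_eq_zero {x y : A} : pr x y = 0 ↔ y = 0 ∨ y = x := by
  rw [Submodule.Quotient.mk_eq_zero, mem_span_one]

theorem pr_eq {x y z : A} : pr x y = pr x z ↔ y = z ∨ y = z + x := by
  rw [Submodule.Quotient.eq, mem_span_one, sub_eq_zero, sub_eq_iff_eq_add']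

theorem pr_add (x y z : A) : pr x (y + z) = pr x y + pr x z := rfl

@[simp] theorem pr_self (x : A) : pr x x = 0 := pr_eq_zero.2 (Or.inr rfl)

/-- The isomorphism of quotients given by a group element. -/
def qe (g : Γ) (x : A) : Q x ≃ₗ[F2] Q (g • x) :=
  Submodule.Quotient.equiv _ _ (lin A g) (by rw [map_span, Set.image_singleton]; rfl)

theorem qe_pr (g : Γ) (x y : A) : qe g x (pr x y) = pr (g • x) (g • y) := rfl

theorem iso_qe (g : Γ) (x : A) : Iso (stabilizer Γ x) (stabilizer Γ (g • x)) (qe g x) :=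
  ⟨fun k => ⟨⟨g * k * g⁻¹, by simp [mul_smul, mem_stabilizer_iff.1 k.2]⟩, fun a => by
      induction a using Submodule.Quotient.induction_on
      simp [qe_pr, mul_smul]⟩,
    fun k => ⟨⟨g⁻¹ * k * g, by simp [mul_smul, mem_stabilizer_iff.1 k.2]⟩, fun a => by
      induction a using Submodule.Quotient.induction_on
      simp [qe_pr, mul_smul]⟩⟩

/-- Preimage of a subspace of the quotient. -/
def up (x : A) (L : Submodule F2 (Q x)) : Submodule F2 A := L.comap (span F2 {x}).mkQ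

theorem mem_up {x z : A} {L : Submodule F2 (Q x)} : z ∈ up x L ↔ pr x z ∈ L := Iff.rfl

theorem finrank_up [Finite A] {x : A} (hx : x ≠ 0) (L : Submodule F2 (Q x)) :
    finrank F2 (up x L) = finrank F2 L + 1 := by
  have e1 := ((span F2 {x}).mkQ.domRestrict (up x L)).finrank_range_add_finrank_ker
  have e2 : LinearMap.range ((span F2 {x}).mkQ.domRestrict (up x L)) = L := by
    rw [LinearMap.range_domRestrict, up, map_comap_eq_of_surjective (mkQ_surjective _)]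
  have e3 : finrank F2 (LinearMap.ker ((span F2 {x}).mkQ.domRestrict (up x L))) = 1 := by
    rw [← finrank_map_subtype_eq (up x L), LinearMap.ker_domRestrict, map_comap_subtype, ker_mkQ,
      inf_eq_right.2 ((span_singleton_le_iff_mem _ _).2 (by simp [mem_up])), finrank_span_singleton hx]
  rw [e2, e3] at e1
  exact e1.symm

theorem finrank_Q [Finite A] {x : A} (hx : x ≠ 0) : finrank F2 (Q x) + 1 = finrank F2 A := by
  have := (span F2 {x}).finrank_quotient_add_finrank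
  rwa [finrank_span_singleton hx] at this

theorem pr_mem_span_two {x y z u : A} : pr x u ∈ span F2 {pr x y, pr x z} ↔
    u ∈ span F2 {y, z} ∨ u + x ∈ span F2 {y, z} := by
  rw [mem_span_two, mem_span_two, mem_span_two, ← pr_add, pr_eq_zero, pr_eq, pr_eq, pr_eq, add_eq_zero']
  have k : ∀ a : A, u = a + x ↔ u + x = a := fun a =>
    ⟨fun e => by rw [e, add_add_cancel], fun e => by rw [← e, add_add_cancel]⟩
  simp only [k]
  tauto

end iso

variable {Γ V V' : Type*} [Group Γ] [AddCommGroup V] [Module F2 V] [DistribMulAction Γ V]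
  [AddCommGroup V'] [Module F2 V'] [DistribMulAction Γ V']

/-- Independent pairs. -/
structure I2 (x y : V) : Prop where
  x0 : x ≠ 0
  y0 : y ≠ 0
  ne : y ≠ x

theorem I2.symm {x y : V} (h : I2 x y) : I2 y x := ⟨h.y0, h.x0, h.ne.symm⟩

theorem I2.pr_ne {x y : V} (h : I2 x y) : pr x y ≠ 0 := fun e => (pr_eq_zero.1 e).elim h.y0 h.ne

theorem I2.of_pr {x y : V} (hx : x ≠ 0) (h : pr x y ≠ 0) : I2 x y :=
  ⟨hx, fun e => h (pr_eq_zero.2 (Or.inl e)), fun e => h (pr_eq_zero.2 (Or.inr e))⟩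

theorem i2_smul (g : Γ) {x y : V} : I2 (g • x) (g • y) ↔ I2 x y :=
  ⟨fun h => ⟨fun e => h.x0 (by rw [e, smul_zero]), fun e => h.y0 (by rw [e, smul_zero]),
    fun e => h.ne (by rw [e])⟩,
    fun h => ⟨smul_ne_zero' g h.x0, smul_ne_zero' g h.y0, fun e => h.ne (smul_left_cancel g e)⟩⟩

theorem I2.swap23 {x y z : V} (h : I2 x y) (hz : z ∉ span F2 {x, y}) : I2 x z ∧ y ∉ span F2 {x, z} := by
  rw [mem_span_two] at hz ⊢
  push Not at hz ⊢
  exact ⟨⟨h.x0, hz.1, hz.2.1⟩, h.y0, h.ne, hz.2.2.1.symm, fun e => hz.2.2.2 (by rw [e, add_add_cancel'])⟩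

theorem I2.add_right {x y z : V} (hz : z ∉ span F2 {x, y}) {a : V} (ha : a ∈ span F2 {x, y}) :
    z + a ∉ span F2 {x, y} := fun k => hz (by simpa [add_add_cancel] using add_mem k ha)

/-- Double transitivity on nonzero vectors. -/
def T2 (Γ V : Type*) [Group Γ] [AddCommGroup V] [DistribMulAction Γ V] : Prop :=
  ∀ x y x' y' : V, I2 x y → I2 x' y' → ∃ g : Γ, g • x = x' ∧ g • y = y'

theorem T2.at (h : T2 Γ V) : AT Γ V := fun y u hy hu huy =>
  h y u y (u + y) ⟨hy, hu, huy⟩ ⟨hy, fun e => huy (add_eq_zero'.1 e), by simpa using hu⟩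

variable [Finite V] [Finite V']

theorem T2.flag (h : T2 Γ V) (P : Pr Γ V V') {x x' : V} {f f' : V'} (hx : x ≠ 0) (hx' : x' ≠ 0)
    (hf : f ≠ 0) (hf' : f' ≠ 0) (e : P.b x f = 0) (e' : P.b x' f' = 0) :
    ∃ g : Γ, g • x = x' ∧ g • f = f' := by
  obtain ⟨g, rfl⟩ := h.at.trans hx hx'
  obtain ⟨k, k1, k2⟩ := P.four_flag (stabilizer Γ (g • x)) (g • x) (fun u v u0 ux v0 vx =>
    h _ u _ v ⟨hx', u0, ux⟩ ⟨hx', v0, vx⟩) (smul_ne_zero' g hf) hf' (by rw [P.inv, e]) e'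
  exact ⟨k * g, by rw [mul_smul, mem_stabilizer_iff.1 k1], by rw [mul_smul, k2]⟩

theorem T2.dual (h : T2 Γ V) (P : Pr Γ V V') : T2 Γ V' := by
  intro f k f' k' h1 h2
  obtain ⟨g, rfl⟩ := (h.at.dual P).trans h1.x0 h2.x0
  obtain ⟨s, s1, s2⟩ := P.four_two (stabilizer Γ (g • f)) (g • f) (fun u v u0 v0 e => by
    rcases f2_cases (P.b v (g • f)) with e' | e'
    · obtain ⟨s, s1, s2⟩ := h.flag P u0 v0 h2.x0 h2.x0 (e.trans e') e'
      exact ⟨s, s2, s1⟩
    · obtain ⟨s, s1, s2⟩ := h.at.anti' P (e.trans e') e'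
      exact ⟨s, s2, s1⟩) ((i2_smul g).2 h1).y0 h2.y0 ((i2_smul g).2 h1).ne h2.ne
  exact ⟨s * g, by rw [mul_smul, mem_stabilizer_iff.1 s1], by rw [mul_smul, s2]⟩

variable [Finite Γ]

theorem T2.good (h : T2 Γ V) {x y : V} (k : I2 x y) : Good Γ x y := by
  obtain ⟨z, hz⟩ := h.at.exists_good (Pr.dual Γ V)
    ((finrank_span_two k.x0 k.y0 k.ne).ge.trans (span F2 {x, y}).finrank_le) k.x0
  obtain ⟨g, g1, g2⟩ := h x z x y ⟨hz.y0, hz.z0, hz.ne⟩ k
  have := hz.smul g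
  rwa [g1, g2] at this

theorem T2.quot_at (h : T2 Γ V) {x : V} (hx : x ≠ 0) : AT (stabilizer Γ x) (Q x) := by
  intro y u hy hu huy
  induction y using Submodule.Quotient.induction_on with | H y =>
  induction u using Submodule.Quotient.induction_on with | H u =>
  obtain ⟨g, g1, g2, g3⟩ := (h.good (I2.of_pr hx hy)).mv u (by
    rw [mem_span_two]
    rintro (e | e | e | e)
    exacts [hu (pr_eq_zero.2 (Or.inl e)), hu (pr_eq_zero.2 (Or.inr e)), huy (pr_eq.2 (Or.inl e)),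
      huy (pr_eq.2 (Or.inr (by rw [e, add_comm])))]) y (mem_span_two.2 (by simp))
  exact ⟨⟨g, g1⟩, by rw [smul_mk, g2], by rw [smul_mk, g3]; rfl⟩

theorem T2.swap23 (h : T2 Γ V) {x y z : V} (k : I2 x y) (hz : z ∉ span F2 {x, y}) :
    ∃ g : Γ, g • x = x ∧ g • y = z ∧ g • z = y := by
  have my : y ∈ span F2 {x, y} := mem_span_two.2 (by simp)
  obtain ⟨a, a1, a2, a3⟩ := (h.good k).mv z hz y my
  obtain ⟨k1, k2⟩ := k.swap23 (I2.add_right hz my)
  obtain ⟨b, b1, b2, b3⟩ := (h.good k1).mv y k2 (z + y) (mem_span_two.2 (by simp))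
  obtain ⟨k3, k4⟩ := k.swap23 hz
  have mz : z ∈ span F2 {x, z} := mem_span_two.2 (by simp)
  obtain ⟨c, c1, c2, c3⟩ := (h.good k3).mv (y + z) (I2.add_right k4 mz) z mz
  refine ⟨c * b * a, by simp only [mul_smul, a1, b1, c1], ?_, ?_⟩
  · simp only [mul_smul, a2, b3]
    rw [add_comm z y, add_add_cancel', c2]
  · simp only [mul_smul, a3, b2]
    rw [add_comm z y, c3, add_add_cancel]

theorem T2.swap12 (h : T2 Γ V) {x y z : V} (k : I2 x y) (hz : z ∉ span F2 {x, y}) :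
    ∃ g : Γ, g • x = y ∧ g • y = x ∧ g • z = z := by
  obtain ⟨k1, k2⟩ := k.swap23 hz
  rw [span_two_comm] at k2
  obtain ⟨g, g1, g2, g3⟩ := h.swap23 k1.symm k2
  exact ⟨g, g2, g3, g1⟩

theorem T2.beta_symm (h : T2 Γ V) (β : V → V → Submodule F2 V)
    (hβ : ∀ (g : Γ) x y z, g • z ∈ β (g • x) (g • y) ↔ z ∈ β x y)
    (hle : ∀ x y, x ∈ β x y ∧ y ∈ β x y) {x y : V} (k : I2 x y) : β x y = β y x := by
  ext z
  by_cases hz : z ∈ span F2 {x, y}
  · have : ∀ X : Submodule F2 V, x ∈ X → y ∈ X → z ∈ X := fun X h1 h2 =>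
      (span_le.2 (by rintro _ (rfl | rfl); exacts [h1, h2]) : span F2 {x, y} ≤ X) hz
    exact iff_of_true (this _ (hle x y).1 (hle x y).2) (this _ (hle y x).2 (hle y x).1)
  · obtain ⟨g, g1, g2, g3⟩ := h.swap12 k hz
    rw [← hβ g, g1, g2, g3]

/-- No invariant functional on a line. -/
theorem T2.tf (h : T2 Γ V) (P : Pr Γ V V') {x₀ y₀ : V} (k₀ : I2 x₀ y₀) {f₀ : V'} (hf : f₀ ≠ 0)
    (e1 : P.b x₀ f₀ = 0) (e2 : P.b y₀ f₀ = 0) (hs : ∀ g : Γ, g • x₀ = x₀ → g • y₀ = y₀ → g • f₀ = f₀) :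
    finrank F2 V ≤ 3 := by
  classical
  choose γ γ1 γ2 using fun x y (k : I2 x y) => h x₀ y₀ x y k₀ k
  set L : V → V → V →ₗ[F2] F2 := fun x y => if k : I2 x y then P.b.flip (γ x y k • f₀) else 0 with hL
  have Lp : ∀ x y (k : I2 x y) z, L x y z = P.b z (γ x y k • f₀) := fun x y k z => by simp [hL, k]
  have Ln : ∀ x y, ¬ I2 x y → ∀ z, L x y z = 0 := fun x y k z => by simp [hL, k]
  have inv : ∀ (g : Γ) x y z, L (g • x) (g • y) (g • z) = L x y z := by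
    intro g x y z
    by_cases k : I2 x y
    · have k' := (i2_smul g).2 k
      have := hs ((γ _ _ k')⁻¹ * g * γ x y k) (by rw [mul_smul, mul_smul, γ1, inv_smul_eq_iff, γ1])
        (by rw [mul_smul, mul_smul, γ2, inv_smul_eq_iff, γ2])
      rw [mul_smul, mul_smul, inv_smul_eq_iff] at this
      rw [Lp _ _ k', Lp _ _ k, ← this, P.inv]
    · rw [Ln _ _ k, Ln _ _ fun k' => k ((i2_smul g).1 k')]
  have dep : ∀ x y z, ¬ (I2 x y ∧ z ∉ span F2 {x, y}) → L x y z = 0 := by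
    intro x y z n
    by_cases k : I2 x y
    · have hz : z ∈ span F2 {x, y} := by by_contra hz; exact n ⟨k, hz⟩
      have a1 : P.b x (γ x y k • f₀) = 0 := by rw [← e1, ← P.inv (γ x y k) x₀, γ1]
      have a2 : P.b y (γ x y k • f₀) = 0 := by rw [← e2, ← P.inv (γ x y k) y₀, γ2]
      rw [Lp _ _ k]
      exact P.mem_perp_two.2 ⟨a1, a2⟩ z hz
    · exact Ln _ _ k z
  have s12 : ∀ x y z, L x y z = L y x z := by
    intro x y z
    by_cases n : I2 x y ∧ z ∉ span F2 {x, y}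
    · obtain ⟨g, g1, g2, g3⟩ := h.swap12 n.1 n.2
      rw [← inv g, g1, g2, g3]
    · rw [dep _ _ _ n, dep _ _ _ fun n' => n ⟨n'.1.symm, span_two_comm x y ▸ n'.2⟩]
  have s23 : ∀ x y z, L x y z = L x z y := by
    intro x y z
    by_cases n : I2 x y ∧ z ∉ span F2 {x, y}
    · obtain ⟨g, g1, g2, g3⟩ := h.swap23 n.1 n.2
      rw [← inv g, g1, g2, g3]
    · rw [dep _ _ _ n, dep _ _ _ fun n' => n (n'.1.swap23 n'.2)]
  have m2 : ∀ x y y', L x (y + y') = L x y + L x y' := fun x y y' => LinearMap.ext fun z => by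
    rw [LinearMap.add_apply, s23, map_add, s23 x y, s23 x y']
  have m2' : ∀ (c : F2) x y, L x (c • y) = c • L x y := fun c x y => LinearMap.ext fun z => by
    rw [LinearMap.smul_apply, s23, map_smul, s23 x y]
  have sw : ∀ x y, L x y = L y x := fun x y => LinearMap.ext (s12 x y)
  refine ns_form (LinearMap.mk₂ F2 L (fun x x' y => by rw [sw, m2, sw y, sw y])
    (fun c x y => by rw [sw, m2', sw y]) m2 m2') s12 s23
    (fun x z => Ln x x (fun k => k.ne rfl) z) fun x y hx hy hyx => ?_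
  by_contra n
  push Not at n
  refine smul_ne_zero' (γ x y ⟨hx, hy, hyx⟩) hf (P.r _ fun z => ?_)
  rw [← Lp]
  exact n z

end Cfsg.Lib.CK2
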