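import Cfsg.Agent.Lib.CK2.G

/-! Doubly transitive linear groups over `F₂`: the step to triple transitivity. -/

set_option autoImplicit false

namespace Cfsg.Lib.CK2

open Module Submodule MulAction

variable {Γ V V' : Type*} [Group Γ] [AddCommGroup V] [Module F2 V] [DistribMulAction Γ V]
  [AddCommGroup V'] [Module F2 V'] [DistribMulAction Γ V']

/-- The space `W` of the point stabilizer, pulled back. -/
def Wt (Γ : Type*) [Group Γ] [DistribMulAction Γ V] (x y : V) : Submodule F2 V :=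
  up x (W (stabilizer Γ x) (pr x y))

/-- The space `W2` of the point stabilizer, pulled back. -/
def W2t (Γ : Type*) [Group Γ] [DistribMulAction Γ V] (x y : V) : Submodule F2 V :=
  up x (W2 (stabilizer Γ x) (pr x y))

/-- The closure of the point stabilizer, pulled back. -/
def Ct (Γ : Type*) [Group Γ] [DistribMulAction Γ V] (x y : V) : Submodule F2 V :=
  up x (Cl (stabilizer Γ x) (pr x y))

theorem smul_Wt (g : Γ) (x y z : V) : g • z ∈ Wt Γ (g • x) (g • y) ↔ z ∈ Wt Γ x y :=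
  (iso_qe g x).mem_W (y := pr x y) (z := pr x z)

theorem smul_W2t (g : Γ) (x y z : V) : g • z ∈ W2t Γ (g • x) (g • y) ↔ z ∈ W2t Γ x y :=
  (iso_qe g x).mem_W2 (y := pr x y) (z := pr x z)

theorem smul_Ct (g : Γ) (x y z : V) : g • z ∈ Ct Γ (g • x) (g • y) ↔ z ∈ Ct Γ x y :=
  (iso_qe g x).mem_Cl (y := pr x y) (z := pr x z)

theorem left_mem_up (x : V) (L : Submodule F2 (Q x)) : x ∈ up x L := by simp [mem_up]

theorem mem_Wt (x y : V) : x ∈ Wt Γ x y ∧ y ∈ Wt Γ x y := ⟨left_mem_up _ _, self_mem_W _⟩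

theorem mem_W2t (x y : V) : x ∈ W2t Γ x y ∧ y ∈ W2t Γ x y :=
  ⟨left_mem_up _ _, W_le_W2 (self_mem_W _) (self_mem_W _)⟩

theorem mem_Ct (x y : V) : x ∈ Ct Γ x y ∧ y ∈ Ct Γ x y := ⟨left_mem_up _ _, self_mem_Cl _⟩

theorem up_eq_top {x : V} {L : Submodule F2 (Q x)} : up x L = ⊤ ↔ L = ⊤ := by
  simp only [eq_top_iff']
  exact ⟨fun h q => by
    induction q using Submodule.Quotient.induction_on
    exact h _, fun h _ => h _⟩

theorem pr_notMem {x y z : V} : pr x z ∉ span F2 {pr x y} ↔ z ∉ span F2 {x, y} := by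
  rw [mem_span_one, mem_span_two, pr_eq_zero, pr_eq, add_comm y x]
  tauto

theorem good_pr {x y z : V} (k : I2 x y) (hz : z ∉ span F2 {x, y}) (h : z ∈ Wt Γ x y) :
    Good (stabilizer Γ x) (pr x y) (pr x z) := by
  have := pr_notMem.2 hz
  rw [mem_span_one, not_or] at this
  exact good_of_mem h this.1 this.2

/-- Triple transitivity (given double transitivity). -/
def T3 (Γ V : Type*) [Group Γ] [AddCommGroup V] [Module F2 V] [DistribMulAction Γ V] : Prop :=
  ∀ x y z z' : V, I2 x y → z ∉ span F2 {x, y} → z' ∉ span F2 {x, y} →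
    ∃ g : Γ, g • x = x ∧ g • y = y ∧ g • z = z'

/-- All transvections are induced. -/
def AllTv (Γ V : Type*) [Group Γ] [AddCommGroup V] [Module F2 V] [DistribMulAction Γ V] : Prop :=
  ∀ (φ : V →ₗ[F2] F2) (c : V), φ c = 0 → ∃ g : Γ, ∀ a, g • a = a + φ a • c

theorem dual_b (a : V) (φ : V →ₗ[F2] F2) : (Pr.dual Γ V).b a φ = φ a := rfl

theorem T3.quot (h2 : T2 Γ V) (h3 : T3 Γ V) {x : V} (hx : x ≠ 0) : T2 (stabilizer Γ x) (Q x) := by
  intro y z y' z' k k'
  induction y using Submodule.Quotient.induction_on with | H y =>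
  induction z using Submodule.Quotient.induction_on with | H z =>
  induction y' using Submodule.Quotient.induction_on with | H y' =>
  induction z' using Submodule.Quotient.induction_on with | H z' =>
  obtain ⟨g, g1, g2⟩ := h2 x y x y' (I2.of_pr hx k.x0) (I2.of_pr hx k'.x0)
  obtain ⟨s, s1, s2, s3⟩ := h3 x y' (g • z) z' (I2.of_pr hx k'.x0) (by
    rw [← g2]
    nth_rw 1 [← g1]
    rw [smul_mem_span_two, ← pr_notMem, mem_span_one, not_or]
    exact ⟨k.y0, k.ne⟩) (by rw [← pr_notMem, mem_span_one, not_or]; exact ⟨k'.y0, k'.ne⟩)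
  exact ⟨⟨s * g, by rw [mem_stabilizer_iff, mul_smul, g1, s1]⟩, by rw [smul_mk, mul_smul, g2, s2],
    by rw [smul_mk, mul_smul, s3]⟩

variable [Finite V] [Finite V'] [Finite Γ]

theorem AT.spread' (h : AT Γ V) (hs : ∀ y c : V, Good Γ y c → W Γ c = W Γ y) {y : V} (hy : y ≠ 0)
    (hT : W Γ y ≠ ⊤) (h3 : 3 ≤ finrank F2 (W Γ y)) {g : Γ} {ψ : V →ₗ[F2] F2} {c u : V}
    (hc : c ∈ W Γ y) (c0 : c ≠ 0) (e : ψ c = 0) (hu : u ∈ W Γ y) (e' : ψ u ≠ 0)
    (hg : ∀ a ∈ W Γ y, g • a = a + ψ a • c) : False := by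
  refine h.spread hs hy hT h3 (g := g) (H := W Γ y ⊓ LinearMap.ker ψ) inf_le_left ?_ ⟨hc, e⟩ c0
    (fun a ha => by rw [hg a ha.1, show ψ a = 0 from ha.2, zero_smul, add_zero])
    fun a ha n => by rw [hg a ha, f2_ne_zero.1 fun k : ψ a = 0 => n ⟨ha, k⟩, one_smul]
  refine le_antisymm (finrank_lt_finrank_of_lt (lt_of_le_of_ne inf_le_left fun k => e' ?_))
    (finrank_le_succ fun a ha b hb n1 n2 => ⟨add_mem ha hb, ?_⟩)
  · rw [← k] at hu; exact hu.2
  · rw [SetLike.mem_coe, LinearMap.mem_ker, map_add, f2_ne_zero.1 fun k : ψ a = 0 => n1 ⟨ha, k⟩,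
      f2_ne_zero.1 fun k : ψ b = 0 => n2 ⟨hb, k⟩]
    decide

omit [Finite Γ] in
theorem AT.j1 (h : AT Γ V) (hA : 2 ≤ finrank F2 V)
    (hcl : ∀ X : Submodule F2 V, Closed Γ X → X ≠ ⊥ → X = ⊤) {y : V} (hy : y ≠ 0) (hT : W Γ y ≠ ⊤) :
    J1 Γ V := by
  refine ⟨h, hA, fun z c hc => le_antisymm (Nat.succ_le_of_lt (lt_of_le_of_ne (finrank_mono inf_le_left)
    fun e => hT (hcl _ (fun u hu u0 => ?_) fun k => hy ?_))) (h.inf_succ hc)⟩
  · by_cases uy : u = y
    · rw [uy]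
    have g := good_of_mem hu u0 uy
    rw [← eq_of_le_of_finrank_eq (inf_le_right : W Γ y ⊓ W Γ u ≤ _)
      (by rw [h.finrank_inf g hc, e, h.finrank_W hc.y0 u0])]
    exact inf_le_left
  · have := self_mem_W (Γ := Γ) y
    rwa [k, mem_bot] at this

namespace T2

variable (h : T2 Γ V)
include h

theorem Wt_symm {x y : V} (k : I2 x y) : Wt Γ x y = Wt Γ y x := h.beta_symm _ smul_Wt mem_Wt k

theorem W2t_symm {x y : V} (k : I2 x y) : W2t Γ x y = W2t Γ y x := h.beta_symm _ smul_W2t mem_W2t k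

theorem Ct_symm {x y : V} (k : I2 x y) : Ct Γ x y = Ct Γ y x := h.beta_symm _ smul_Ct mem_Ct k

theorem t3_of_top {x y z z' : V} (k : I2 x y) (hT : W (stabilizer Γ x) (pr x y) = ⊤)
    (hz : z ∉ span F2 {x, y}) (hz' : z' ∉ span F2 {x, y}) :
    ∃ g : Γ, g • x = x ∧ g • y = y ∧ g • z = z' := by
  have m : ∀ u, u ∈ Wt Γ x y := fun u => by rw [Wt, hT]; trivial
  obtain ⟨⟨g, g1⟩, g2, g3⟩ := (h.quot_at k.x0).good_trans (good_pr k hz (m _)) (good_pr k hz' (m _))
  rw [smul_mk] at g2 g3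
  rw [mem_stabilizer_iff] at g1
  have mx : ∀ y, x ∈ span F2 {x, y} := fun y => mem_span_two.2 (by simp)
  have s1 : ∃ s : Γ, s • x = x ∧ s • y = y ∧ s • z = g • z := by
    rcases pr_eq.1 g2 with e | e
    · exact ⟨g, g1, e, rfl⟩
    · obtain ⟨k1, k2⟩ := k.swap23 hz
      have k3 := (i2_smul g).2 k1
      rw [← smul_mem_span_two g] at k2
      rw [g1] at k2 k3
      obtain ⟨s, s1, s2, s3⟩ := (h.good k3).mv _ k2 x (mx _)
      exact ⟨s * g, by rw [mul_smul, g1, s1], by rw [mul_smul, s3, e, add_add_cancel],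
        by rw [mul_smul, s2]⟩
  obtain ⟨s, s1, s2, s3⟩ := s1
  rcases pr_eq.1 g3 with e | e
  · exact ⟨s, s1, s2, s3.trans e⟩
  · obtain ⟨t, t1, t2, t3⟩ := (h.good k).mv _ (I2.add_right hz' (mx y)) x (mx _)
    exact ⟨t * s, by rw [mul_smul, s1, t1], by rw [mul_smul, s2, t2],
      by rw [mul_smul, s3, e, t3, add_add_cancel]⟩

theorem Ct_eq {x y a b : V} (k : I2 x y) (ha : a ∈ Ct Γ x y) (hb : b ∈ Ct Γ x y) (k' : I2 a b) :
    Ct Γ a b = Ct Γ x y := by
  have aux : ∀ {x y a : V}, I2 x y → a ∈ Ct Γ x y → I2 x a → Ct Γ x a = Ct Γ x y := fun k ha k' =>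
    congrArg (up _) ((h.quot_at k.x0).Cl_eq k.pr_ne ha k'.pr_ne)
  by_cases e : a = x
  · subst e; exact aux k hb k'
  have k1 : I2 x a := ⟨k.x0, k'.x0, e⟩
  have e1 : Ct Γ a x = Ct Γ x y := by rw [← h.Ct_symm k1, aux k ha k1]
  rw [← e1] at hb ⊢
  exact aux k1.symm hb k'

theorem block {x y : V} (k : I2 x y) : T2 (Stab Γ (Ct Γ x y)) (Ct Γ x y) := by
  intro a b a' b' k1 k2
  have c : ∀ {a b : Ct Γ x y}, I2 a b → I2 (a : V) b := fun k =>
    ⟨by simpa using k.x0, by simpa using k.y0, fun e => k.ne (Subtype.ext e)⟩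
  obtain ⟨g, g1, g2⟩ := h a b a' b' (c k1) (c k2)
  refine ⟨⟨g, fun z => ?_⟩, Subtype.ext g1, Subtype.ext g2⟩
  have := smul_Ct g (a : V) b z
  rwa [g1, g2, h.Ct_eq k a'.2 b'.2 (c k2), h.Ct_eq k a.2 b.2 (c k1)] at this

/-- The case of a dual `W` of rank two. -/
theorem w_two (P : Pr Γ V V') {x : V} (hx : x ≠ 0) {f : P.perp (span F2 {x})} (hf : f ≠ 0)
    (hA : 3 ≤ finrank F2 V) (w : finrank F2 (W (stabilizer Γ x) f) = 2) : finrank F2 V ≤ 3 := by
  have hq := finrank_Q hx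
  have aq := h.quot_at hx
  have Pq : Pr (stabilizer Γ x) (Q x) _ := P.quot (stabilizer Γ x) (span F2 {x})
  obtain ⟨c, hc⟩ := (aq.dual Pq).exists_good Pq.flip (by rw [Pq.finrank_eq]; exact by omega : 2 ≤ finrank F2 (P.perp (span F2 {x}))) hf
  have e : W (stabilizer Γ x) f = span F2 {f, c} :=
    (eq_of_le_of_finrank_eq (hc.span_le.trans inf_le_left)
      (by rw [w, finrank_span_two hc.y0 hc.z0 hc.ne])).symm
  have f0 : (f : V') ≠ 0 := by simpa using hf
  have k : I2 (f : V') c := ⟨f0, by simpa using hc.z0, fun e => hc.ne (Subtype.ext e)⟩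
  have le : stabilizer (stabilizer Γ (f : V')) x ≤ stabilizer (stabilizer Γ (f : V')) (pr (f : V') c) := by
    intro g hg
    have g1 : (⟨g, hg⟩ : stabilizer Γ x) • f = f := Subtype.ext g.2
    have g2 := (smul_mem_W (⟨g, hg⟩ : stabilizer Γ x)).2 hc.mem
    have g3 := hc.smul (⟨g, hg⟩ : stabilizer Γ x)
    rw [g1] at g2 g3
    rw [e, mem_span_two] at g2
    rw [mem_stabilizer_iff, smul_mk, pr_eq]
    rcases g2 with e | e | e | e
    exacts [absurd e g3.z0, absurd e g3.ne, Or.inl (congrArg Subtype.val e),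
      Or.inr ((congrArg Subtype.val e).trans (add_comm _ _))]
  have i1 : (stabilizer (stabilizer Γ (f : V')) x).index = 2 ^ (finrank F2 V - 1) - 1 := by
    have := P.flip.finrank_perp (span F2 {(f : V')})
    rw [finrank_span_singleton f0, P.finrank_eq] at this
    rw [index_stabilizer, show orbit (stabilizer Γ (f : V')) x =
      (P.flip.perp (span F2 {(f : V')}) : Set V) \ {0} from ?_,
      Set.ncard_diff_singleton_of_mem (zero_mem _), ncard_sub]
    · congr 2; omega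
    ext u
    simp only [Set.mem_diff, SetLike.mem_coe, Pr.mem_perp_one, Pr.flip_b, Set.mem_singleton_iff]
    constructor
    · rintro ⟨⟨g, hg⟩, rfl⟩
      refine ⟨?_, smul_ne_zero' g hx⟩
      have := P.inv g x f
      rw [mem_stabilizer_iff.1 hg, P.mem_perp_one.1 f.2] at this
      exact this
    · rintro ⟨h1, h2⟩
      obtain ⟨g, g1, g2⟩ := h.flag P hx h2 f0 f0 (P.mem_perp_one.1 f.2) h1
      exact ⟨⟨g, g2⟩, g1⟩
  have i2 : (stabilizer (stabilizer Γ (f : V')) (pr (f : V') c)).index = 2 ^ (finrank F2 V - 1) - 1 := by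
    have := finrank_Q f0
    rw [P.finrank_eq] at this
    rw [index_stabilizer, show orbit (stabilizer Γ (f : V')) (pr (f : V') c) =
      ((⊤ : Submodule F2 (Q (f : V'))) : Set _) \ {0} from ?_,
      Set.ncard_diff_singleton_of_mem (zero_mem _), ncard_sub, finrank_top]
    · congr 2; omega
    ext u
    simp only [Set.mem_diff, SetLike.mem_coe, mem_top, true_and, Set.mem_singleton_iff]
    exact ⟨fun ⟨g, e⟩ => e ▸ smul_ne_zero' g k.pr_ne, fun n => ((h.dual P).quot_at f0).trans k.pr_ne n⟩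
  have eq := Subgroup.eq_of_le_of_card_ge le (by
    have a := (stabilizer (stabilizer Γ (f : V')) x).card_mul_index
    have b := (stabilizer (stabilizer Γ (f : V')) (pr (f : V') c)).card_mul_index
    have p := (stabilizer (stabilizer Γ (f : V')) x).index_ne_zero_of_finite
    rw [i2, ← i1, ← a] at b
    exact (Nat.eq_of_mul_eq_mul_right (Nat.pos_of_ne_zero p) b).le)
  rw [← P.finrank_eq]
  refine (h.dual P).tf P.flip k hx (P.mem_perp_one.1 f.2) (P.mem_perp_one.1 c.2) fun g g1 g2 => ?_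
  have : (⟨g, g1⟩ : stabilizer Γ (f : V')) ∈ stabilizer (stabilizer Γ (f : V')) (pr (f : V') c) := by
    rw [mem_stabilizer_iff, smul_mk, g2]
  rw [← eq] at this
  exact this

end T2

end Cfsg.Lib.CK2
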