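import Cfsg.Agent.Lib.CK2.H

/-! Doubly transitive linear groups over `F₂` (Cameron–Kantor): the main induction. -/

set_option autoImplicit false

namespace Cfsg.Lib.CK2

open Module Submodule MulAction

universe u v

variable {Γ V : Type*} [Group Γ] [AddCommGroup V] [Module F2 V] [DistribMulAction Γ V]
  [Finite V] [Finite Γ]

namespace T2

variable (h : T2 Γ V)
include h

theorem block_case {x y : V} (k : I2 x y) (hA : 2 ≤ finrank F2 (Q x))
    (hT : W (stabilizer Γ x) (pr x y) ≠ ⊤) (h3 : T3 (Stab Γ (Ct Γ x y)) (Ct Γ x y))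
    (ht : finrank F2 (Ct Γ x y) ≠ 4 → AllTv (Stab Γ (Ct Γ x y)) (Ct Γ x y)) : False := by
  have aq := h.quot_at k.x0
  have hq := finrank_Q k.x0
  obtain ⟨c, hc⟩ := aq.exists_good (Pr.dual _ _) hA k.pr_ne
  have WC : ∀ u : Q x, u ≠ 0 → W (stabilizer Γ x) u ≤ Cl (stabilizer Γ x) u := fun u u0 =>
    Cl_closed u u (self_mem_Cl u) u0
  let x' : Ct Γ x y := ⟨x, (mem_Ct x y).1⟩
  let y' : Ct Γ x y := ⟨y, (mem_Ct x y).2⟩
  have sp : ∀ z : Ct Γ x y, z ∈ span F2 {x', y'} ↔ (z : V) ∈ span F2 {x, y} := fun z => by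
    simp only [mem_span_two, Subtype.ext_iff]; rfl
  have e0 : W (stabilizer Γ x) (pr x y) = Cl (stabilizer Γ x) (pr x y) := by
    refine le_antisymm (WC _ k.pr_ne) fun z hz => ?_
    induction z using Submodule.Quotient.induction_on with | H z =>
    induction c using Submodule.Quotient.induction_on with | H c =>
    by_cases n : pr x z ∈ span F2 {pr x y}
    · exact (span_singleton_le_iff_mem _ _).2 (self_mem_W _) n
    obtain ⟨⟨g, hg⟩, g1, g2, g3⟩ := h3 x' y' ⟨c, WC _ k.pr_ne hc.mem⟩ ⟨z, hz⟩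
      ⟨fun e => k.x0 (congrArg Subtype.val e), fun e => k.y0 (congrArg Subtype.val e),
        fun e => k.ne (congrArg Subtype.val e)⟩
      (by rw [sp, ← pr_notMem, mem_span_one, not_or]; exact ⟨hc.z0, hc.ne⟩) (by rwa [sp, ← pr_notMem])
    have := (smul_Wt g x y c).2 hc.mem
    rwa [show g • x = x from congrArg Subtype.val g1, show g • y = y from congrArg Subtype.val g2,
      show g • c = z from congrArg Subtype.val g3] at this
  have e1 : ∀ u : Q x, u ≠ 0 → W (stabilizer Γ x) u = Cl (stabilizer Γ x) u := fun u u0 => by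
    obtain ⟨g, rfl⟩ := aq.trans k.pr_ne u0
    ext z
    rw [← smul_inv_smul g z, smul_mem_W, e0]
    exact (iso_lin g).mem_Cl.symm
  have hs : ∀ u c : Q x, Good (stabilizer Γ x) u c → W (stabilizer Γ x) c = W (stabilizer Γ x) u :=
    fun u c g => by rw [e1 _ g.z0, e1 _ g.y0, aq.Cl_eq g.y0 (WC _ g.y0 g.mem) g.z0]
  have lt := finrank_lt_finrank_of_lt (lt_top_iff_ne_top.2 hT)
  rw [finrank_top] at lt
  have w2 := hc.two_le
  by_cases w : finrank F2 (W (stabilizer Γ x) (pr x y)) = 2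
  · have Pq : Pr (stabilizer Γ x) (Q x) _ := (Pr.dual Γ V).quot (stabilizer Γ x) (span F2 {x})
    have := Pq.finrank_eq
    obtain ⟨f, hf⟩ := (Module.finrank_pos_iff_exists_ne_zero (R := F2)
      (M := (Pr.dual Γ V).perp (span F2 {x}))).1 (by omega)
    have := h.w_two (Pr.dual Γ V) k.x0 hf (by omega) (by rw [aq.finrank_W_dual Pq hA k.pr_ne hf, w])
    omega
  by_cases w3 : finrank F2 (W (stabilizer Γ x) (pr x y)) = 3
  · have r := finrank_span_two hc.y0 hc.z0 hc.ne
    have le := hc.span_le.trans inf_le_left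
    obtain ⟨u, hu, hu'⟩ := SetLike.exists_of_lt (lt_of_le_of_ne le fun e => by rw [e] at r; omega)
    have my : pr x y ∈ span F2 {pr x y, c} := mem_span_two.2 (by simp)
    obtain ⟨g, g1, g2, g3⟩ := hc.mv u hu' _ my
    have fx : ∀ a ∈ span F2 {pr x y, c}, g • a = a := fun a ha => by
      rcases mem_span_two.1 ha with rfl | rfl | rfl | rfl
      exacts [smul_zero _, g1, g2, by rw [smul_add, g1, g2]]
    refine aq.spread hs k.pr_ne hT w3.ge le (by omega) my k.pr_ne fx fun a ha n => ?_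
    rw [← add_add_cancel a u, smul_add, fx _ (cod1 le (by omega) ha hu n hu'), g3, add_assoc (a + u)]
  obtain ⟨ψ, p1, p2⟩ := (Pr.dual (stabilizer Γ x) (Q x)).exists_sep (L := span F2 {pr x y}) (v := c)
    (by rw [mem_span_one, not_or]; exact ⟨hc.z0, hc.ne⟩)
  rw [Pr.mem_perp_one] at p1
  obtain ⟨⟨g, hg'⟩, hg⟩ := ht (by rw [Ct, finrank_up k.x0, ← e0]; omega)
    ((show Q x →ₗ[F2] F2 from ψ) ∘ₗ (span F2 {x}).mkQ ∘ₗ (Ct Γ x y).subtype) y' p1
  have gx : g • x = x := by
    refine (congrArg Subtype.val (hg x')).trans ?_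
    change x + (show Q x →ₗ[F2] F2 from ψ) (pr x x) • y = x
    rw [pr_self, map_zero, zero_smul, add_zero]
  refine aq.spread' hs k.pr_ne hT (by omega) (g := ⟨g, gx⟩) (ψ := ψ) (self_mem_W _) k.pr_ne p1 hc.mem
    (f2_ne_zero.2 p2) fun a ha => ?_
  induction a using Submodule.Quotient.induction_on with | H a =>
  rw [e0] at ha
  rw [smul_mk, show g • a = _ from congrArg Subtype.val (hg ⟨a, ha⟩)]
  rfl

theorem conn_case {x y : V} (k : I2 x y) (hA : 2 ≤ finrank F2 (Q x))
    (hT : W (stabilizer Γ x) (pr x y) ≠ ⊤) (hC : Ct Γ x y = ⊤) : False := by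
  have hq := finrank_Q k.x0
  have lt := finrank_lt_finrank_of_lt (lt_top_iff_ne_top.2 hT)
  rw [finrank_top] at lt
  obtain ⟨c₀, hc₀⟩ := (h.quot_at k.x0).exists_good (Pr.dual _ _) hA k.pr_ne
  have w2 := hc₀.two_le
  have rk : ∀ {a b : V}, I2 a b →
      finrank F2 (W (stabilizer Γ a) (pr a b)) = finrank F2 (W (stabilizer Γ x) (pr x y)) := by
    intro a b k'
    obtain ⟨g, rfl, rfl⟩ := h x y a b k k'
    have := finrank_eq_of_smul g (smul_Wt g x y)
    rw [Wt, Wt, finrank_up k.x0, finrank_up k'.x0] at this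
    omega
  have hcl : ∀ {a : V}, a ≠ 0 → ∀ X : Submodule F2 (Q a), Closed (stabilizer Γ a) X → X ≠ ⊥ → X = ⊤ := by
    intro a ha X h1 h2
    obtain ⟨b, hb, b0⟩ := (Submodule.ne_bot_iff _).1 h2
    induction b using Submodule.Quotient.induction_on with | H b =>
    obtain ⟨g, rfl, rfl⟩ := h x y a b k (I2.of_pr ha b0)
    refine eq_top_iff.2 (le_trans (up_eq_top.1 (eq_top_iff'.2 fun z => ?_)).ge (Cl_le hb h1))
    rw [← smul_inv_smul g z]
    exact (smul_Ct g x y _).2 (hC ▸ mem_top)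
  have j : ∀ {a b : V}, I2 a b → J1 (stabilizer Γ a) (Q a) := fun {a b} k' =>
    (h.quot_at k'.x0).j1 (by have := finrank_Q k'.x0; omega) (hcl k'.x0) k'.pr_ne fun e => by
      have := rk k'
      have := finrank_Q k'.x0
      rw [e, finrank_top] at *
      omega
  by_cases hN : finrank F2 (W (stabilizer Γ x) (pr x y)) + 1 = finrank F2 (Q x)
  · have r := (Pr.dual Γ V).finrank_perp (Wt Γ x y)
    rw [Wt, finrank_up k.x0] at r
    change _ + finrank F2 ((Pr.dual Γ V).perp (Wt Γ x y)) = _ at r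
    obtain ⟨f, hf⟩ := (Module.finrank_pos_iff_exists_ne_zero (R := F2)
      (M := (Pr.dual Γ V).perp (Wt Γ x y))).1 (by omega)
    have f0 : (f : Du V) ≠ 0 := by simpa using hf
    have e : span F2 {(f : Du V)} = (Pr.dual Γ V).perp (Wt Γ x y) :=
      eq_of_le_of_finrank_eq ((span_singleton_le_iff_mem _ _).2 f.2)
        (by rw [finrank_span_singleton f0]; omega)
    have := h.tf (Pr.dual Γ V) k f0 (f.2 _ (mem_Wt x y).1) (f.2 _ (mem_Wt x y).2) fun g g1 g2 => by
      refine (mem_span_one.1 ?_).resolve_left (smul_ne_zero' g f0)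
      rw [e]
      intro a ha
      rw [Pr.inv'']
      refine f.2 _ ((smul_Wt g x y _).1 ?_)
      rwa [g1, g2, smul_inv_smul]
    omega
  have w3 := (j k).three (hcl k.x0) hN hc₀
  have wsym : ∀ {a b c : V}, I2 a b → c ∉ span F2 {a, b} → c ∈ Wt Γ a b → b ∈ Wt Γ a c :=
    fun k' n m => (good_pr k' n m).symm.mem
  have inter : ∀ {a b c v : V}, I2 a b → c ∉ span F2 {a, b} → c ∈ Wt Γ a b → v ∈ Wt Γ c a →
      v ∈ Wt Γ c b → v ∈ Wt Γ a b := by
    intro a b c v k' n m v1 v2
    obtain ⟨k1, n1⟩ := k'.swap23 n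
    have g := good_pr k1.symm (span_two_comm a c ▸ n1) (h.Wt_symm k1 ▸ wsym k' n m)
    have r := (j k1.symm).cod _ _ g
    rw [rk k1.symm, w3] at r
    have : pr c v ∈ span F2 {pr c a, pr c b} := by
      rw [eq_of_le_of_finrank_eq g.span_le (by rw [finrank_span_two g.y0 g.z0 g.ne]; omega)]
      exact ⟨v1, v2⟩
    have le : span F2 {a, b} ≤ Wt Γ a b := span_le.2 (by
      rintro _ (rfl | rfl); exacts [(mem_Wt _ _).1, (mem_Wt _ _).2])
    rcases pr_mem_span_two.1 this with e | e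
    · exact le e
    · rw [← add_add_cancel v c]; exact add_mem (le e) m
  have key : ∀ b c : Q x, Good (stabilizer Γ x) b c → W2 (stabilizer Γ x) c = W2 (stabilizer Γ x) b := by
    intro b c g
    induction b using Submodule.Quotient.induction_on with | H b =>
    induction c using Submodule.Quotient.induction_on with | H c =>
    have kb := I2.of_pr k.x0 g.y0
    have kc := I2.of_pr k.x0 g.z0
    have n : c ∉ span F2 {x, b} := by rw [← pr_notMem, mem_span_one, not_or]; exact ⟨g.z0, g.ne⟩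
    have m : c ∈ Wt Γ x b := g.mem
    have n' : c ∉ span F2 {b, x} := span_two_comm x b ▸ n
    have m' : c ∈ Wt Γ b x := h.Wt_symm kb ▸ m
    obtain ⟨kbc, -⟩ := kb.symm.swap23 n'
    obtain ⟨v, v1, v2⟩ := (j kb.symm).exists_out (good_pr kb.symm n' m')
    induction v using Submodule.Quotient.induction_on with | H v =>
    change v ∈ Wt Γ b c at v1
    change v ∉ Wt Γ b x at v2
    rw [← h.Wt_symm kb] at v2
    have nv : pr x v ∉ W (stabilizer Γ x) (pr x b) ⊔ W (stabilizer Γ x) (pr x c) := fun t => by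
      rcases (j k).tri g t with t | t | t
      · exact v2 t
      · exact v2 (inter kb n m (h.Wt_symm kc ▸ t) (h.Wt_symm kbc ▸ v1))
      · have nb : b + c ∉ span F2 {x, b} := add_comm c b ▸ I2.add_right n (mem_span_two.2 (by simp))
        obtain ⟨k1, -⟩ := kb.swap23 nb
        obtain ⟨k2, -⟩ := kb.symm.swap23 (span_two_comm x b ▸ nb)
        refine v2 (inter kb nb (add_mem (mem_Wt _ _).2 m) (h.Wt_symm k1 ▸ t) ?_)
        rw [← h.Wt_symm k2, Wt, pr_add, pr_self, zero_add]
        exact v1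
    set X := W (stabilizer Γ x) (pr x b) ⊔ W (stabilizer Γ x) (pr x c) ⊔ span F2 {pr x v} with hX
    have r : 5 ≤ finrank F2 X := by
      have := finrank_lt_finrank_of_lt (lt_of_le_of_ne (le_sup_left : _ ≤ X) fun e =>
        nv (e ▸ mem_sup_right (mem_span_singleton_self _)))
      rw [(j k).sup_rank g, rk kb, w3] at this
      exact this
    have s : ∀ {b c : V}, Good (stabilizer Γ x) (pr x b) (pr x c) →
        finrank F2 (W2 (stabilizer Γ x) (pr x b)) = 5 := fun g =>
      ((j k).W2_spec (hcl k.x0) (by rwa [rk (I2.of_pr k.x0 g.y0)]) g).1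
    have l1 : X ≤ W2 (stabilizer Γ x) (pr x b) := sup_le (sup_le (W_le_W2 (self_mem_W _)) (W_le_W2 g.mem))
      ((span_singleton_le_iff_mem _ _).2 (by
        change v ∈ W2t Γ x b
        rw [h.W2t_symm kb]
        exact W_le_W2 m' v1))
    have l2 : X ≤ W2 (stabilizer Γ x) (pr x c) :=
      sup_le (sup_le (W_le_W2 g.symm.mem) (W_le_W2 (self_mem_W _)))
      ((span_singleton_le_iff_mem _ _).2 (by
        change v ∈ W2t Γ x c
        rw [h.W2t_symm kc]
        rw [h.Wt_symm kbc] at v1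
        exact W_le_W2 (show b ∈ Wt Γ c x from h.Wt_symm kc ▸ g.symm.mem) v1))
    rw [← eq_of_le_of_finrank_le l1 ((s g).le.trans r), ← eq_of_le_of_finrank_le l2 ((s g.symm).le.trans r)]
  obtain ⟨s1, s2⟩ := (j k).W2_spec (hcl k.x0) hN hc₀
  have top := hcl k.x0 (W2 (stabilizer Γ x) (pr x y)) (fun u hu u0 => by
    obtain ⟨c, c1, c2⟩ := s2 u hu
    have c0 : c ≠ 0 := by rintro rfl; rw [W_zero] at c2; exact u0 c2
    refine (W_le_W2 c2).trans (le_of_eq ?_)
    by_cases e : c = pr x y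
    exacts [e ▸ rfl, key _ _ (good_of_mem c1 c0 e)]) (fun e => by rw [e, finrank_bot] at s1; omega)
  rw [top, finrank_top] at s1
  exact hT ((h.quot_at k.x0).top_of_prime (by rw [s1]; norm_num) hc₀)

end T2

end Cfsg.Lib.CK2
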