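import Cfsg.Agent.Lib.CK2.I

/-! Doubly transitive linear groups over `F₂` (Cameron–Kantor): transvections and the theorem. -/

set_option autoImplicit false

namespace Cfsg.Lib.CK2

open Module Submodule MulAction

universe u v

variable {Γ V : Type*} [Group Γ] [AddCommGroup V] [Module F2 V] [DistribMulAction Γ V] [Finite V]

/-- A nontrivial transvection is induced. -/
def HasTv (Γ V : Type*) [Group Γ] [AddCommGroup V] [Module F2 V] [DistribMulAction Γ V] : Prop :=
  ∃ (g : Γ) (φ : V →ₗ[F2] F2) (c : V), φ ≠ 0 ∧ c ≠ 0 ∧ φ c = 0 ∧ ∀ a, g • a = a + φ a • c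

theorem T2.allTv (h : T2 Γ V) (t : HasTv Γ V) : AllTv Γ V := by
  obtain ⟨g, φ₀, c₀, p0, c0, e0, hg⟩ := t
  intro φ c e
  by_cases n : φ = 0 ∨ c = 0
  · exact ⟨1, fun a => by rcases n with rfl | rfl <;> simp⟩
  rw [not_or] at n
  obtain ⟨k, k1, k2⟩ := h.flag (Pr.dual Γ V) (f := φ₀) (f' := φ) c0 n.2 p0 n.1 e0 e
  refine ⟨k * g * k⁻¹, fun a => ?_⟩
  rw [mul_smul, mul_smul, hg, smul_add, smul_inv_smul, smul_f2, k1,
    show φ₀ (k⁻¹ • a) = φ a from congrArg ((Pr.dual Γ V).b a) k2]

theorem hasTv_of_hyper {H : Submodule F2 V} (hr : finrank F2 H + 1 = finrank F2 V) {g : Γ} {u c : V}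
    (hu : u ∉ H) (hc : c ∈ H) (c0 : c ≠ 0) (g1 : ∀ a ∈ H, g • a = a) (g2 : g • u = u + c) :
    HasTv Γ V := by
  obtain ⟨φ, p1, p2⟩ := (Pr.dual Γ V).exists_sep hu
  refine ⟨g, φ, c, fun e => zero_ne_one ((DFunLike.congr_fun e u).symm.trans p2), c0, p1 c hc, fun a => ?_⟩
  by_cases ha : a ∈ H
  · rw [g1 a ha, show (show V →ₗ[F2] F2 from φ) a = 0 from p1 a ha, zero_smul, add_zero]
  · have m := cod1 (N := ⊤) le_top (by rwa [finrank_top]) mem_top mem_top ha hu
    have : (show V →ₗ[F2] F2 from φ) a = 1 := by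
      have := p1 _ m
      rw [map_add, LinearMap.add_apply, p2] at this
      exact f2_ne_zero.1 fun e => by rw [show (Pr.dual Γ V).b a φ = 0 from e] at this; simp at this
    rw [this, one_smul, ← add_add_cancel a u, smul_add, g1 _ m, g2, add_assoc (a + u)]

theorem exists_coef {g : Γ} {x : V} (hx : x ≠ 0) (η : V →ₗ[F2] V) (h : ∀ a, g • a + η a ∈ span F2 {x}) :
    ∃ l : V →ₗ[F2] F2, ∀ a, g • a = η a + l a • x := by
  obtain ⟨f, -, hf⟩ := (Pr.dual Γ V).exists_sep (L := ⊥) (v := x) (by simpa using hx)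
  refine ⟨(show V →ₗ[F2] F2 from f) ∘ₗ ((lin V g : V →ₗ[F2] V) + η), fun a => ?_⟩
  change _ = _ + (show V →ₗ[F2] F2 from f) (g • a + η a) • x
  rcases mem_span_one.1 (h a) with e | e
  · rw [e, map_zero, zero_smul, add_zero, add_eq_zero'.1 e]
  · rw [e, show (show V →ₗ[F2] F2 from f) x = 1 from hf, one_smul, ← e, add_comm (g • a), add_add_cancel']

theorem ker_triv (n : ¬ HasTv Γ V) {g : Γ} {x : V} (hx : x ≠ 0) (g1 : g • x = x)
    (h : ∀ a, g • a + a ∈ span F2 {x}) (a : V) : g • a = a := by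
  obtain ⟨l, hl⟩ := exists_coef hx LinearMap.id h
  have e : l = 0 := by
    by_contra e
    refine n ⟨g, l, x, e, hx, ?_, hl⟩
    have := hl x
    rw [g1, LinearMap.id_apply, left_eq_add, smul_eq_zero] at this
    exact this.resolve_right hx
  rw [hl, e]; simp

theorem Pr.big {V' : Type*} [AddCommGroup V'] [Module F2 V'] [DistribMulAction Γ V'] [Finite V']
    (P : Pr Γ V V') (L : Submodule F2 V) (f : V') (r : finrank F2 L + 2 ≤ finrank F2 V) :
    ∃ f', f' ≠ 0 ∧ f' ≠ f ∧ f' ∈ P.perp L := by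
  have := P.finrank_perp L
  by_contra! k
  have le : P.perp L ≤ span F2 {f} := fun f' hf' => mem_span_one.2 (by
    by_contra! k'
    exact k f' k'.1 k'.2 hf')
  have := (finrank_mono le).trans (finrank_le_one ⟨f, mem_span_singleton_self _⟩ fun w =>
    (mem_span_singleton.1 w.2).imp fun _ e => Subtype.ext e)
  omega

theorem Pr.sep2 {V' : Type*} [AddCommGroup V'] [Module F2 V'] [DistribMulAction Γ V'] [Finite V']
    (P : Pr Γ V V') {f l : V'} (h0 : l ≠ 0) (h1 : l ≠ f) : ∃ a, P.b a f = 0 ∧ P.b a l = 1 := by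
  obtain ⟨a, a1, a2⟩ := P.flip.exists_sep (L := span F2 {f}) (v := l) (by rw [mem_span_one]; tauto)
  exact ⟨a, P.flip.mem_perp_one.1 a1, a2⟩

theorem hasTv_of_quot (hn : 5 ≤ finrank F2 V) {x : V} (hx : x ≠ 0) (t : AllTv (stabilizer Γ x) (Q x)) :
    HasTv Γ V := by
  by_contra n
  set P := Pr.dual Γ V
  have lift : ∀ (f : V →ₗ[F2] F2) (c : V), f x = 0 → f c = 0 → ∃ (g : Γ) (l : V →ₗ[F2] F2), l x = 0 ∧
      ∀ a, g • a = a + f a • c + l a • x := by
    intro f c e1 e2
    obtain ⟨⟨g, g1⟩, hg⟩ := t ((span F2 {x}).liftQ f ((span_singleton_le_iff_mem _ _).2 e1)) (pr x c) e2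
    obtain ⟨l, hl⟩ := exists_coef (g := g) hx (LinearMap.id + f.smulRight c) fun a => by
      rw [← Submodule.Quotient.mk_eq_zero, Submodule.Quotient.mk_add, add_eq_zero']
      exact hg (pr x a)
    refine ⟨g, l, ?_, hl⟩
    have := hl x
    rw [mem_stabilizer_iff.1 g1] at this
    simpa [e1, hx] using this
  have comm : ∀ {f f' l l' : V →ₗ[F2] F2} {c c' : V} {g g' : Γ}, f x = 0 → f' x = 0 → l x = 0 → l' x = 0 →
      f c' = 0 → f' c = 0 → (∀ a, g • a = a + f a • c + l a • x) → (∀ a, g' • a = a + f' a • c' + l' a • x) →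
      ∀ a, f' a * l c' = f a * l' c := by
    intro f f' l l' c c' g g' e1 e2 e3 e4 e5 e6 hg hg' a
    have gx : g • x = x := by rw [hg, e1, e3]; simp
    have gx' : g' • x = x := by rw [hg', e2, e4]; simp
    have d : ∀ a, g • g' • a + g' • g • a = (f' a * l c' + f a * l' c) • x := fun a => by
      rw [hg (g' • a), hg' (g • a), hg, hg']
      simp only [map_add, map_smul, e1, e2, e3, e4, e5, e6, smul_eq_mul, mul_zero, add_zero, add_smul]
      have := add_self (a + f a • c + f' a • c' + l a • x + l' a • x)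
      rw [← sub_eq_zero, ← this]
      abel_nf
    have := ker_triv n (g := (g' * g)⁻¹ * (g * g')) hx (by rw [mul_smul, inv_smul_eq_iff]; simp [mul_smul, gx, gx'])
      (fun a => by
        nth_rw 2 [← inv_smul_smul (g' * g) a]
        rw [mul_smul, ← smul_add, mul_smul, mul_smul, d, smul_f2,
          show (g' * g)⁻¹ • x = x by rw [inv_smul_eq_iff, mul_smul, gx, gx']]
        exact smul_mem _ _ (mem_span_singleton_self x)) a
    rw [mul_smul, inv_smul_eq_iff, mul_smul, mul_smul, ← add_eq_zero', d, smul_eq_zero] at this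
    exact add_eq_zero'.1 (this.resolve_right hx)
  have big : ∀ (L : Submodule F2 V) (f : V →ₗ[F2] F2), finrank F2 L ≤ 3 →
      ∃ f' : V →ₗ[F2] F2, f' ≠ 0 ∧ f' ≠ f ∧ ∀ a ∈ L, f' a = 0 := fun L f r => P.big L f (by omega)
  have r3 : ∀ a b c : V, finrank F2 (span F2 {a, b, c}) ≤ 3 := fun a b c => by
    classical
    exact (finrank_span_le_card _).trans (by simpa using Finset.card_le_three)
  obtain ⟨c, hc⟩ : ∃ c, c ∉ span F2 {x} := by
    by_contra! k
    have := finrank_span_singleton (K := F2) hx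
    rw [eq_top_iff'.2 k, finrank_top] at this
    omega
  rw [mem_span_one, not_or] at hc
  obtain ⟨f, f0, -, hf⟩ := big (span F2 {x, c, c}) 0 (r3 _ _ _)
  have fx : f x = 0 := hf x (subset_span (by simp))
  have fc : f c = 0 := hf c (subset_span (by simp))
  obtain ⟨g, l, lx, hg⟩ := lift f c fx fc
  have lc : l c = 0 := by
    have g2 := ker_triv n (g := g * g) hx (by rw [mul_smul, hg x, fx, lx]; simp [hg x, fx, lx]) fun a => by
      rw [mul_smul, hg, hg a]
      simp only [map_add, map_smul, fx, fc, lx, smul_eq_mul, mul_zero, add_zero, add_smul]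
      have e : a + f a • c + l a • x + f a • c + (l a • x + (f a * l c) • x) + a =
        (f a * l c) • x + ((a + f a • c + l a • x) + (a + f a • c + l a • x)) := by abel
      rw [e, add_self, add_zero]
      exact smul_mem _ _ (mem_span_singleton_self x)
    obtain ⟨a, ha⟩ := DFunLike.ne_iff.1 f0
    have := g2 a
    rw [mul_smul, hg, hg a] at this
    simp only [map_add, map_smul, fx, fc, lx, smul_eq_mul, mul_zero, add_zero, add_smul] at this
    have e : a + f a • c + l a • x + f a • c + (l a • x + (f a * l c) • x) =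
        a + (f a * l c) • x + ((f a • c + l a • x) + (f a • c + l a • x)) := by abel
    rw [e, add_self, add_zero, add_eq_left, smul_eq_zero, mul_eq_zero] at this
    exact (this.resolve_right hx).resolve_left ha
  obtain ⟨a, a1, a2⟩ := P.sep2 (f := f) (l := l)
    (fun e => n ⟨g, f, c, f0, hc.1, fc, fun a => by rw [hg, show l = 0 from e]; simp⟩)
    fun e => n ⟨g, f, c + x, f0, fun e => hc.2 (add_eq_zero'.1 e), by rw [map_add, fx, fc, add_zero],
      fun a => by rw [hg, show l = f from e, smul_add, add_assoc]⟩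
  obtain ⟨f', p0, p1, hf'⟩ := big (span F2 {x, c, a}) f (r3 _ _ _)
  have fx' : f' x = 0 := hf' x (subset_span (by simp))
  obtain ⟨g', l', lx', hg'⟩ := lift f' a fx' (hf' a (subset_span (by simp)))
  have := comm fx fx' lx lx' a1 (hf' c (subset_span (by simp))) hg hg'
  rw [show l a = 1 from a2] at this
  rcases f2_cases (l' c) with e | e
  · exact p0 (LinearMap.ext fun a => by simpa [e] using this a)
  · exact p1 (LinearMap.ext fun a => by simpa [e] using this a)

theorem card_gl3 (hn : finrank F2 V = 3) : Nat.card (V ≃ₗ[F2] V) = 168 := by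
  rw [← Nat.card_congr ((Matrix.GeneralLinearGroup.toLin' (finBasisOfFinrankEq F2 V hn)).trans
    (LinearMap.GeneralLinearGroup.generalLinearEquiv F2 V)).toEquiv, Matrix.card_GL_field]
  simp [Fin.prod_univ_succ]

/-- The representation as a homomorphism. -/
def linHom (Γ V : Type*) [Group Γ] [AddCommGroup V] [Module F2 V] [DistribMulAction Γ V] :
    Γ →* (V ≃ₗ[F2] V) where
  toFun := lin V
  map_one' := LinearEquiv.ext fun a => one_smul _ a
  map_mul' g k := LinearEquiv.ext fun a => mul_smul g k a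

variable [Finite Γ]

theorem T2.five (h : T2 Γ V) (hn : finrank F2 V = 5) {x : V} (hx : x ≠ 0) (n : ¬ HasTv Γ V)
    (n' : ¬ HasTv (stabilizer Γ x) (Q x)) : False := by
  obtain ⟨S⟩ : Nonempty (Sylow 2 (stabilizer Γ x)) := inferInstance
  have hq := finrank_Q hx
  obtain ⟨y, y0, hy⟩ := exists_fixed (A := Q x) S.2 (by omega)
  have hq' := finrank_Q y0
  let ι : S →* stabilizer (stabilizer Γ x) y := S.1.subtype.codRestrict _ hy
  let ρ := (linHom (stabilizer (stabilizer Γ x) y) (Q y)).comp ι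
  letI := antiAct (Pr.dual Γ V) x
  obtain ⟨f, -, hf⟩ := (Pr.dual Γ V).exists_sep (L := ⊥) (v := x) (by simpa using hx)
  let f' : {f // (Pr.dual Γ V).b x f = 1} := ⟨f, hf⟩
  have le : ρ.ker ≤ stabilizer S f' := fun g hg => by
    have k1 := ker_triv n' (g := (g : stabilizer Γ x)) y0 (hy g) fun a => by
      rw [← Submodule.Quotient.mk_eq_zero, Submodule.Quotient.mk_add, add_eq_zero']
      exact DFunLike.congr_fun hg (pr y a)
    have k2 := ker_triv n (g := ((g : stabilizer Γ x) : Γ)) hx g.1.2 fun a => by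
      rw [← Submodule.Quotient.mk_eq_zero, Submodule.Quotient.mk_add, add_eq_zero']
      exact k1 (pr x a)
    refine Subtype.ext (LinearMap.ext fun a => ?_)
    change (show V →ₗ[F2] F2 from f) (((g : stabilizer Γ x) : Γ)⁻¹ • a) = _
    rw [inv_smul_eq_iff.2 (k2 a).symm]
  have i1 : (stabilizer S f').index = 16 := by
    rw [index_stabilizer, show orbit S f' = Set.univ from Set.eq_univ_of_forall fun f₁ => by
      obtain ⟨g, g1, g2⟩ := h.at.sylow (Pr.dual Γ V) hx S hf f₁.2
      exact ⟨⟨g, g1⟩, Subtype.ext g2⟩, Set.ncard_univ, card_affine _ hx, hn]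
    rfl
  have := (Subgroup.index_dvd_of_le le).trans (Subgroup.index_ker ρ ▸ ρ.range.card_subgroup_dvd_card)
  rw [i1, card_gl3 (by omega)] at this
  omega

/-- Cameron–Kantor for `q = 2`. -/
theorem ck_main (N : ℕ) : ∀ (Γ : Type v) (V : Type u) [Group Γ] [AddCommGroup V] [Module F2 V]
    [DistribMulAction Γ V] [Finite V] [Finite Γ], finrank F2 V = N → T2 Γ V →
      T3 Γ V ∧ (finrank F2 V ≠ 4 → AllTv Γ V) := by
  induction N using Nat.strong_induction_on with | h N ih =>
  intro Γ V _ _ _ _ _ _ hN h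
  have h3 : T3 Γ V := by
    intro x y z z' k hz hz'
    refine h.t3_of_top k (by_contra fun hT => ?_) hz hz'
    have hA : 2 ≤ finrank F2 (Q x) := by
      have := pr_notMem.2 hz
      rw [mem_span_one, not_or] at this
      exact (finrank_span_two k.pr_ne this.1 this.2).ge.trans (finrank_le _)
    by_cases hC : Ct Γ x y = ⊤
    · exact h.conn_case k hA hT hC
    · have lt := finrank_lt_finrank_of_lt (lt_top_iff_ne_top.2 hC)
      rw [finrank_top, hN] at lt
      obtain ⟨a, b⟩ := ih _ lt _ _ rfl (h.block k)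
      exact h.block_case k hA hT a b
  refine ⟨h3, fun h4 φ c e => ?_⟩
  by_cases n : φ = 0 ∨ c = 0
  · exact ⟨1, fun a => by rcases n with rfl | rfl <;> simp⟩
  rw [not_or] at n
  refine h.allTv (by_contra fun nt => ?_) φ c e
  obtain ⟨u, hu⟩ := DFunLike.ne_iff.1 n.1
  have k : I2 c u := ⟨n.2, fun e => hu (by simp [e]), fun e' => hu (by rw [e', e]; rfl)⟩
  have r2 := finrank_span_two k.x0 k.y0 k.ne
  have r2' := (span F2 {c, u}).finrank_le
  have hq := finrank_Q n.2
  by_cases e2 : finrank F2 V = 2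
  · obtain ⟨g, g1, g2⟩ := h.at c u k.x0 k.y0 k.ne
    refine nt (hasTv_of_hyper (H := span F2 {c}) (by rw [finrank_span_singleton n.2, e2])
      (by rw [mem_span_one, not_or]; exact ⟨k.y0, k.ne⟩) (mem_span_singleton_self c) n.2 (fun a ha => ?_) g2)
    rcases mem_span_one.1 ha with rfl | rfl
    exacts [smul_zero _, g1]
  by_cases e3 : finrank F2 V = 3
  · obtain ⟨w, -, hw⟩ := SetLike.exists_of_lt (lt_top_iff_ne_top.2 fun e : span F2 {c, u} = ⊤ => by
      rw [e, finrank_top] at r2; omega)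
    have mc : c ∈ span F2 {c, u} := mem_span_two.2 (by simp)
    obtain ⟨g, g1, g2, g3⟩ := (h.good k).mv w hw c mc
    refine nt (hasTv_of_hyper (by omega) hw mc n.2 (fun a ha => ?_) g3)
    rcases mem_span_two.1 ha with rfl | rfl | rfl | rfl
    exacts [smul_zero _, g1, g2, by rw [smul_add, g1, g2]]
  have q2 := h3.quot h n.2
  refine nt (hasTv_of_quot (by omega) n.2 ?_)
  by_cases e5 : finrank F2 V = 5
  · exact q2.allTv (by_contra fun n' => h.five e5 n.2 nt n')
  · exact (ih _ (by omega) _ _ rfl q2).2 (by omega)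

omit [Finite Γ] in
theorem AllTv.all (t : AllTv Γ V) (e : V ≃ₗ[F2] V) : ∃ g : Γ, ∀ a, g • a = e a := by
  suffices H : ∀ (m : ℕ) (e : V ≃ₗ[F2] V), finrank F2 V ≤
      finrank F2 (LinearMap.ker ((e : V →ₗ[F2] V) + LinearMap.id)) + m → ∃ g : Γ, ∀ a, g • a = e a from
    H _ e (Nat.le_add_left _ _)
  have mem : ∀ (e : V ≃ₗ[F2] V) a, a ∈ LinearMap.ker ((e : V →ₗ[F2] V) + LinearMap.id) ↔ e a = a :=
    fun e a => add_eq_zero'
  intro m
  induction m with
  | zero =>
    intro e r
    refine ⟨1, fun a => ?_⟩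
    rw [one_smul, (mem e a).1 (by rw [eq_top_of_finrank_eq (le_antisymm (finrank_le _) r)]; trivial)]
  | succ m ih =>
    intro e r
    by_cases n : ∀ a, e a = a
    · exact ⟨1, fun a => by rw [one_smul, n]⟩
    push Not at n
    obtain ⟨w, hw⟩ := n
    set F := LinearMap.ker ((e : V →ₗ[F2] V) + LinearMap.id)
    have n1 : w ∉ F := fun k => hw ((mem e w).1 k)
    have n2 : e w ∉ F := fun k => hw (e.injective ((mem e _).1 k))
    obtain ⟨f, f1, f2, f3⟩ : ∃ f : V →ₗ[F2] F2, (∀ a ∈ F, f a = 0) ∧ f w = 1 ∧ f (e w) = 1 := by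
      obtain ⟨f, f1, f2⟩ := (Pr.dual Γ V).exists_sep n1
      obtain ⟨f', f1', f2'⟩ := (Pr.dual Γ V).exists_sep n2
      rcases f2_cases ((Pr.dual Γ V).b (e w) f) with a | a
      · rcases f2_cases ((Pr.dual Γ V).b w f') with b | b
        · exact ⟨(f + f' : Du V), add_mem f1 f1', show (Pr.dual Γ V).b _ (f + f') = 1 by
            rw [map_add, f2, b, add_zero], show (Pr.dual Γ V).b _ (f + f') = 1 by
            rw [map_add, f2', a, zero_add]⟩
        · exact ⟨f', f1', b, f2'⟩
      · exact ⟨f, f1, f2, a⟩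
    obtain ⟨g, hg⟩ := t f (w + e w) (by rw [map_add, f2, f3]; decide)
    obtain ⟨k, hk⟩ := ih (e.trans (lin V g)) (by
      have := finrank_lt_finrank_of_lt (show F < LinearMap.ker ((e.trans (lin V g) : V →ₗ[F2] V) +
          LinearMap.id) from lt_of_le_of_ne (fun a ha => (mem _ a).2 (by
        rw [LinearEquiv.trans_apply, lin_apply, (mem e a).1 ha, hg, f1 a ha]; simp)) fun k => n1 (by
        rw [k, mem, LinearEquiv.trans_apply, lin_apply, hg, f3, one_smul, add_comm w, add_add_cancel']))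
      omega)
    exact ⟨g⁻¹ * k, fun a => by rw [mul_smul, hk, LinearEquiv.trans_apply, lin_apply, inv_smul_smul]⟩

/-- A doubly transitive group on the nonzero vectors in dimension `≠ 4` induces `GL`. -/
theorem T2.all (h : T2 Γ V) (hn : finrank F2 V ≠ 4) (e : V ≃ₗ[F2] V) : ∃ g : Γ, ∀ a, g • a = e a :=
  ((ck_main _ Γ V rfl h).2 hn).all e

end Cfsg.Lib.CK2
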